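import Cfsg.Agent.Lib.SFourFree.Complement
import Cfsg.Agent.Lib.Core.PSolvable2
import Cfsg.Agent.Lib.Coprime.Abelian

/-!
# Solvable `S₄`-free groups with Sylow `2`-subgroups of class two

`G = N_G(J_e(S)) O_{2'}(G)`.
-/

set_option autoImplicit false
set_option linter.unusedSectionVars false
set_option linter.unusedSimpArgs false
set_option linter.style.haveILetI false

namespace Cfsg.Agent.Lib.SFourFree.ClassTwo

open Subgroup Cfsg
open scoped commutatorElement
open Cfsg.Agent.Lib.PLocal.Thompson Cfsg.Agent.Lib.PLocal.ZJ Cfsg.Agent.Lib.Core.Basic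
  Cfsg.Agent.Lib.Core.PSolvable Cfsg.Agent.Lib.Core.PSolvable2
  Cfsg.Agent.Lib.PLocal.ThompsonFunctor
  Cfsg.Agent.Lib.SFourFree.Offender
  Cfsg.Agent.Lib.QuadAct.Replacement Cfsg.Agent.Lib.QuadAct.OmegaZ

universe u

variable {G : Type u} [Group G] [Finite G]

/-- `Ω₁` of a normal abelian `p`-subgroup, as a normal elementary abelian subgroup. -/
lemma omegaOne_normal {p : ℕ} {Z : Subgroup G} (hZ : Z.Normal) : (Cfsg.omegaOne p Z).Normal := by
  constructor
  intro n hn g
  have h : (Cfsg.omegaOne p Z).map (MulAut.conj g).toMonoidHom ≤ Cfsg.omegaOne p Z := by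
    unfold Cfsg.omegaOne
    rw [MonoidHom.map_closure, Subgroup.closure_le]
    rintro _ ⟨x, ⟨hx1, hx2⟩, rfl⟩
    refine Subgroup.subset_closure ⟨hZ.conj_mem x hx1 g, ?_⟩
    show (g * x * g⁻¹) ^ p = 1
    rw [conj_pow, hx2]
    simp
  exact h ⟨n, hn, rfl⟩

/-- An odd element centralizing `Ω₁(Z(R))` and acting trivially on `R / Z(R)` centralizes `R`. -/
lemma mem_centralizer_of_odd {R : Subgroup G} [hRn : R.Normal] (hR : IsPGroup 2 R) {c : G}
    (hodd : (orderOf c).Coprime 2)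
    (hD : ∀ r ∈ R, ⁅c, r⁆ ∈ R ⊓ centralizer (R : Set G))
    (hΩ : ∀ z ∈ R ⊓ centralizer (R : Set G), z ^ 2 = 1 → c * z = z * c) :
    c ∈ centralizer (R : Set G) := by
  classical
  set Z : Subgroup G := R ⊓ centralizer (R : Set G) with hZ
  have hZn : Z.Normal := inferInstance
  set A : Subgroup G := zpowers c with hA
  have hAcard : Nat.card A = orderOf c := Nat.card_zpowers c
  haveI hZc : IsMulCommutative Z := by
    refine ⟨⟨?_⟩⟩
    rintro ⟨a, ha⟩ ⟨b, hb⟩
    exact Subtype.ext (mem_centralizer_iff.1 hb.2 a ha.1)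
  have hZp : IsPGroup 2 Z := hR.to_le inf_le_left
  have hAZ : A ≤ normalizer (Z : Set G) := by
    rw [normalizer_eq_top Z]
    exact le_top
  have hAR : A ≤ normalizer (R : Set G) := by
    rw [normalizer_eq_top R]
    exact le_top
  have hcopZ : (Nat.card A).Coprime (Nat.card Z) := by
    obtain ⟨k, hk⟩ := IsPGroup.iff_card.1 hZp
    rw [hk, hAcard]
    exact hodd.pow_right k
  have hcopR : (Nat.card A).Coprime (Nat.card R) := by
    obtain ⟨k, hk⟩ := IsPGroup.iff_card.1 hR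
    rw [hk, hAcard]
    exact hodd.pow_right k
  have hAcen : A ≤ centralizer (Z : Set G) := by
    refine Cfsg.Agent.Lib.Coprime.Abelian.le_centralizer_of_fixes_prime_order hAZ hcopZ ?_
    intro v hv hvo a ha
    obtain ⟨k, hk⟩ := hZp ⟨v, hv⟩
    have h1 : v ^ 2 ^ k = 1 := congrArg Subtype.val hk
    have h2 : orderOf v ∣ 2 ^ k := orderOf_dvd_of_pow_eq_one h1
    have h3 : orderOf v = 2 :=
      (Nat.prime_dvd_prime_iff_eq hvo Nat.prime_two).1 (hvo.dvd_of_dvd_pow h2)
    have h5 : v ^ 2 = 1 := by rw [← h3]; exact pow_orderOf_eq_one v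
    have h6 := hΩ v hv h5
    obtain ⟨m, rfl⟩ := mem_zpowers_iff.1 ha
    exact (Commute.zpow_left h6 m)
  have hsolv : Group.IsSolvable A := by
    haveI : IsMulCommutative A := by
      refine ⟨⟨?_⟩⟩
      rintro ⟨a, ha⟩ ⟨b, hb⟩
      obtain ⟨m, rfl⟩ := mem_zpowers_iff.1 ha
      obtain ⟨n, rfl⟩ := mem_zpowers_iff.1 hb
      apply Subtype.ext
      show c ^ m * c ^ n = c ^ n * c ^ m
      rw [← zpow_add, ← zpow_add, add_comm]
    infer_instance
  have h1 := Cfsg.Agent.Lib.Coprime.Action.commutator_commutator_eq hAR hcopR (Or.inl hsolv)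
  have h2 : ⁅R, A⁆ ≤ Z := by
    rw [commutator_le]
    intro r hr a ha
    obtain ⟨m, rfl⟩ := mem_zpowers_iff.1 ha
    -- the elements of `A` acting trivially on `R / Z` form a subgroup
    have hK : zpowers c ≤ sectionKernel R Z := by
      rw [zpowers_le]
      exact mem_sectionKernel_iff.2 hD
    have h3 := mem_sectionKernel_iff.1 (hK (mem_zpowers_iff.2 ⟨m, rfl⟩)) r hr
    rw [← commutatorElement_inv]
    exact inv_mem h3
  have h3 : ⁅⁅R, A⁆, A⁆ = ⊥ := by
    rw [eq_bot_iff, commutator_le]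
    intro x hx a ha
    have := mem_centralizer_iff.1 (hAcen ha) x (h2 hx)
    rw [mem_bot, commutatorElement_eq_one_iff_mul_comm]
    exact this
  rw [h1] at h3
  rw [mem_centralizer_iff]
  intro r hr
  have h4 := commutator_mem_commutator hr (mem_zpowers c)
  rw [h3, mem_bot, commutatorElement_eq_one_iff_mul_comm] at h4
  exact h4

/-- The key statement: when `O_{2'}(G) = 1`, the Thompson subgroup lies in `O₂(G)`. -/
theorem jOf_le_pCore [Group.IsSolvable G] (hS4 : ¬ Cfsg.Involves (Equiv.Perm (Fin 4)) G)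
    (hO : pPrimeCore 2 G = ⊥) (S : Sylow 2 G)
    (hcl : ∀ a ∈ (S : Subgroup G), ∀ b ∈ (S : Subgroup G), ∀ c ∈ (S : Subgroup G), ⁅⁅a, b⁆, c⁆ = 1) :
    jOf 2 (S : Subgroup G) ≤ pCore 2 G := by
  classical
  have hsepG : IsPSolvable 2 G := isPSolvable_of_isSolvable
  set R : Subgroup G := pCore 2 G with hR
  have hRn : R.Normal := inferInstance
  have hRp : IsPGroup 2 R := pCore_isPGroup
  have hRS : R ≤ (S : Subgroup G) := pCore_le_sylow S
  have hc : centralizer (R : Set G) ≤ R := centralizer_pCore_le_of_isPSolvable hsepG hO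
  set Z : Subgroup G := R ⊓ centralizer (R : Set G) with hZ
  have hZn : Z.Normal := inferInstance
  set V₀ : Subgroup G := Cfsg.omegaOne 2 Z with hV₀
  have hV₀n : V₀.Normal := omegaOne_normal hZn
  have hV₀Z : V₀ ≤ Z := omegaOne_le_self
  have hV₀e : Cfsg.IsElementaryAbelian 2 V₀ := by
    refine isElementaryAbelian_closure ?_ ?_
    · rintro x ⟨hx, -⟩ y ⟨hy, -⟩
      exact mem_centralizer_iff.1 hy.2 x hx.1
    · rintro x ⟨-, hx⟩
      exact hx
  set D : Subgroup G := sectionKernel R Z with hD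
  have hDn : D.Normal := sectionKernel_normal R Z
  have hSD : (S : Subgroup G) ≤ D := by
    intro t ht
    rw [hD, mem_sectionKernel_iff]
    intro r hr
    refine Subgroup.mem_inf.2 ⟨?_, mem_centralizer_iff.2 fun r' hr' => ?_⟩
    · rw [commutatorElement_def]
      exact mul_mem (hRn.conj_mem _ hr t) (inv_mem hr)
    · have h1 := hcl t ht r (hRS hr) r' (hRS hr')
      rw [commutatorElement_eq_one_iff_mul_comm] at h1
      exact h1.symm
  have hRD : R ≤ D := hRS.trans hSD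
  have hV₀D : V₀ ≤ D := hV₀Z.trans (inf_le_left.trans hRD)
  -- `E`
  set E : Subgroup G := D ⊓ centralizer (V₀ : Set G) with hE
  have hEn : E.Normal := Subgroup.normal_inf_normal _ _
  have hEodd : ∀ c ∈ E, (orderOf c).Coprime 2 → c = 1 := by
    intro c hcE hodd
    have h1 : c ∈ centralizer (R : Set G) := by
      refine mem_centralizer_of_odd hRp hodd ?_ ?_
      · exact mem_sectionKernel_iff.1 hcE.1
      · intro z hz hz2
        have hzV : z ∈ V₀ := Subgroup.subset_closure ⟨hz, hz2⟩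
        exact (mem_centralizer_iff.1 hcE.2 z hzV).symm
    obtain ⟨k, hk⟩ := hRp ⟨c, hc h1⟩
    have h2 : c ^ 2 ^ k = 1 := congrArg Subtype.val hk
    have h3 : orderOf c ∣ 2 ^ k := orderOf_dvd_of_pow_eq_one h2
    have h4 : orderOf c = 1 := Nat.eq_one_of_dvd_coprimes (hodd.pow_right k) dvd_rfl h3
    exact orderOf_eq_one_iff.1 h4
  have hEp : IsPGroup 2 E := by
    rw [IsPGroup.iff_card]
    have hne : Nat.card E ≠ 0 := Nat.card_pos.ne'
    refine ⟨_, Nat.eq_prime_pow_of_unique_prime_dvd hne ?_⟩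
    intro q hq hqd
    by_contra hq2
    haveI : Fact q.Prime := ⟨hq⟩
    obtain ⟨x, hx⟩ := exists_prime_orderOf_dvd_card' (G := E) q hqd
    have h1 : ((x : E) : G) = 1 := by
      refine hEodd _ x.2 ?_
      rw [Subgroup.orderOf_coe, hx]
      exact (Nat.coprime_primes hq Nat.prime_two).2 hq2
    have h2 : x = 1 := Subtype.ext h1
    rw [h2, orderOf_one] at hx
    exact hq.one_lt.ne hx
  have hER : E ≤ R := le_pCore hEn hEp
  -- the group `T = D`
  haveI hUn : (V₀.subgroupOf D).Normal := hV₀n.subgroupOf D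
  set U : Subgroup D := V₀.subgroupOf D with hU
  have hUe : Cfsg.IsElementaryAbelian 2 U :=
    Cfsg.Agent.Lib.QuadAct.ZJ.isElementaryAbelian_comap D.subtype D.subtype_injective hV₀e
  have hmemC : ∀ x : D, x ∈ centralizer (U : Set D) → (x : G) ∈ E := by
    intro x hx
    refine ⟨x.2, mem_centralizer_iff.2 fun v hv => ?_⟩
    have h1 := mem_centralizer_iff.1 hx ⟨v, hV₀D hv⟩ (mem_subgroupOf.2 hv)
    exact congrArg Subtype.val h1
  have hO' : pCore 2 (D ⧸ centralizer (U : Set D)) = ⊥ := by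
    rw [eq_bot_iff]
    intro q hq
    obtain ⟨x, rfl⟩ := QuotientGroup.mk_surjective q
    rw [mem_bot, QuotientGroup.eq_one_iff]
    set f : D →* D ⧸ centralizer (U : Set D) := QuotientGroup.mk' _ with hf
    set F : Subgroup D := (pCore 2 (D ⧸ centralizer (U : Set D))).comap f with hF
    have hFn : F.Normal := Subgroup.Normal.comap inferInstance _
    have hker : IsPGroup 2 f.ker := by
      rw [hf, QuotientGroup.ker_mk']
      have h1 : IsPGroup 2 ((centralizer (U : Set D)).map D.subtype) := by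
        refine hEp.to_le ?_
        rintro _ ⟨y, hy, rfl⟩
        exact hmemC y hy
      exact h1.of_equiv (Subgroup.equivMapOfInjective _ _ D.subtype_injective).symm
    have hFp : IsPGroup 2 F := pCore_isPGroup.comap_of_ker_isPGroup f hker
    have hFD : F ≤ pCore 2 D := le_pCore hFn hFp
    have h2 := map_pCore_le_of_isSubnormal (p := 2) (K := D) hDn.isSubnormal
    have hxR : (x : G) ∈ R := h2 ⟨x, hFD hq, rfl⟩
    refine mem_centralizer_iff.2 ?_
    rintro ⟨v, hv⟩ hv'
    have hvU : v ∈ V₀ := mem_subgroupOf.1 hv'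
    have h3 := mem_centralizer_iff.1 (hV₀Z hvU).2 _ hxR
    exact Subtype.ext h3.symm
  have hsepD : IsPSolvable 2 D := isPSolvable_of_isSolvable
  have hS4D : ¬ Cfsg.Involves (Equiv.Perm (Fin 4)) D := fun h =>
    hS4 (Cfsg.Agent.Lib.PReduced.Sections.involves_of_injective D.subtype D.subtype_injective h)
  rw [jOf, sSup_le_iff]
  intro A hA
  have hA₁ := (isMaxIn_sylow_iff S).1 hA
  have hAD : A ≤ D := hA.1.trans hSD
  set A' : Subgroup D := A.subgroupOf D with hA'
  have hAe : Cfsg.IsElementaryAbelian 2 A := hA.2.1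
  have hcardA : Nat.card A' = Nat.card A :=
    Nat.card_congr (Subgroup.subgroupOfEquivOfLe hAD).toEquiv
  have hAmax : A' ∈ Cfsg.maxElementaryAbelianSubgroups 2 D := by
    refine ⟨Cfsg.Agent.Lib.QuadAct.ZJ.isElementaryAbelian_comap D.subtype D.subtype_injective hAe, ?_⟩
    intro B' hB'
    have h1 : Cfsg.IsElementaryAbelian 2 (B'.map D.subtype) :=
      Cfsg.Agent.Lib.QuadAct.Stable.isElementaryAbelian_map hB' _
    have h2 := hA₁.1.2.2 _ le_top h1
    have h3 : Nat.card B' = Nat.card (B'.map D.subtype) :=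
      Nat.card_congr (Subgroup.equivMapOfInjective _ _ D.subtype_injective).toEquiv
    rw [hcardA, h3]
    exact h2
  have h1 := isBest_le_centralizer hsepD hUe hO' hS4D (bestOffender_of_max hUe hAmax)
  intro a ha
  exact hER (hmemC ⟨a, hAD ha⟩ (h1 (mem_subgroupOf.2 ha)))

/-- When `O_{2'}(G) = 1`, the Thompson subgroup is normal. -/
theorem normalizer_eq_top_of_core [Group.IsSolvable G]
    (hS4 : ¬ Cfsg.Involves (Equiv.Perm (Fin 4)) G)
    (hO : pPrimeCore 2 G = ⊥) (S : Sylow 2 G)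
    (hcl : ∀ a ∈ (S : Subgroup G), ∀ b ∈ (S : Subgroup G), ∀ c ∈ (S : Subgroup G), ⁅⁅a, b⁆, c⁆ = 1) :
    normalizer (jOf 2 (S : Subgroup G) : Set G) = ⊤ := by
  have hle := jOf_le_pCore hS4 hO S hcl
  have h1 : jOf 2 (pCore 2 G) = jOf 2 (S : Subgroup G) := jOf_eq_of_le (pCore_le_sylow S) hle
  rw [← h1]
  have h2 := (pFunctor_jOf (e := 2) (p := 2) (Or.inr rfl)).normalizer_le (pCore 2 G) pCore_isPGroup
  rw [normalizer_eq_top (pCore 2 G)] at h2
  exact top_le_iff.1 h2

/-- The main theorem. -/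
theorem normalizer_sup_core [Group.IsSolvable G]
    (hS4 : ¬ Cfsg.Involves (Equiv.Perm (Fin 4)) G) (S : Sylow 2 G)
    (hcl : ∀ a ∈ (S : Subgroup G), ∀ b ∈ (S : Subgroup G), ∀ c ∈ (S : Subgroup G), ⁅⁅a, b⁆, c⁆ = 1) :
    normalizer (jOf 2 (S : Subgroup G) : Set G) ⊔ pPrimeCore 2 G = ⊤ := by
  classical
  set O : Subgroup G := pPrimeCore 2 G with hO
  have hOn : O.Normal := inferInstance
  have hOc : (Nat.card O).Coprime 2 := pPrimeCore_coprime
  let f : G →* G ⧸ O := QuotientGroup.mk' O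
  have hf : Function.Surjective f := QuotientGroup.mk'_surjective O
  have hkerf : f.ker = O := QuotientGroup.ker_mk' O
  let Sb : Sylow 2 (G ⧸ O) := S.mapSurjective hf
  have hSb : (Sb : Subgroup (G ⧸ O)) = (S : Subgroup G).map f := Sylow.coe_mapSurjective _ _
  have hSO : (S : Subgroup G) ⊓ O = ⊥ := inf_eq_bot_of_isPGroup_of_coprime S.isPGroup' hOc
  have hinf : (S : Subgroup G) ⊓ f.ker = ⊥ := by rw [hkerf]; exact hSO
  have hJb : jOf 2 (Sb : Subgroup (G ⧸ O)) = (jOf 2 (S : Subgroup G)).map f := by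
    rw [hSb, jOf_map_of_inf f _ hinf]
  have hS4b : ¬ Cfsg.Involves (Equiv.Perm (Fin 4)) (G ⧸ O) := fun h =>
    hS4 (Cfsg.Agent.Lib.PReduced.Sections.involves_comap f hf h)
  have hclb : ∀ a ∈ (Sb : Subgroup (G ⧸ O)), ∀ b ∈ (Sb : Subgroup (G ⧸ O)),
      ∀ c ∈ (Sb : Subgroup (G ⧸ O)), ⁅⁅a, b⁆, c⁆ = 1 := by
    intro a ha b hb c hc
    rw [hSb] at ha hb hc
    obtain ⟨a, ha, rfl⟩ := ha
    obtain ⟨b, hb, rfl⟩ := hb
    obtain ⟨c, hc, rfl⟩ := hc
    rw [← map_commutatorElement, ← map_commutatorElement, hcl a ha b hb c hc, map_one]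
  have hNb := normalizer_eq_top_of_core hS4b pPrimeCore_quotient_eq_bot Sb hclb
  have hJbn : (jOf 2 (Sb : Subgroup (G ⧸ O))).Normal := normalizer_eq_top_iff.1 hNb
  set J : Subgroup G := jOf 2 (S : Subgroup G) with hJ
  have hJS : J ≤ (S : Subgroup G) := jOf_le _ _
  set X : Subgroup G := (jOf 2 (Sb : Subgroup (G ⧸ O))).comap f with hX
  have hXn : X.Normal := Subgroup.Normal.comap hJbn _
  have hXdec : ∀ x ∈ X, ∃ j ∈ J, ∃ o ∈ O, x = j * o := by
    intro x hx
    have h1 : f x ∈ J.map f := by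
      rw [← hJb]
      exact hx
    obtain ⟨j, hj, hjx⟩ := h1
    refine ⟨j, hj, j⁻¹ * x, ?_, by group⟩
    rw [← hkerf, MonoidHom.mem_ker, map_mul, map_inv, hjx, inv_mul_cancel]
  have hSX : (S : Subgroup G) ⊓ X = J := by
    apply le_antisymm
    · rintro t ⟨ht, htX⟩
      obtain ⟨j, hj, o, ho, rfl⟩ := hXdec t htX
      have hoS : o ∈ (S : Subgroup G) := by
        have : o = j⁻¹ * (j * o) := by group
        rw [this]
        exact mul_mem (inv_mem (hJS hj)) ht
      have ho1 : o ∈ (S : Subgroup G) ⊓ O := ⟨hoS, ho⟩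
      rw [hSO, mem_bot] at ho1
      rw [ho1, mul_one]
      exact hj
    · refine le_inf hJS ?_
      intro j hj
      show f j ∈ jOf 2 (Sb : Subgroup (G ⧸ O))
      rw [hJb]
      exact Subgroup.mem_map_of_mem f hj
  rw [eq_top_iff]
  intro g _
  obtain ⟨c, hc, y, hy, rfl⟩ := Cfsg.Agent.Lib.PLocal.AlperinG.exists_frattini_normal S X g
  rw [hSX] at hy
  obtain ⟨j, hj, o, ho, rfl⟩ := hXdec c hc
  have hjN : j ∈ normalizer (J : Set G) := le_normalizer hj
  have e : j * o * y = (j * o * j⁻¹) * (j * y) := by group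
  rw [e, sup_comm]
  exact Subgroup.mul_mem_sup (hOn.conj_mem o ho j) (mul_mem hjN hy)

/-- The class two hypothesis in terms of elements. -/
theorem comm_comm_eq_one_of_lcs {S : Subgroup G} (hcl : Subgroup.lowerCentralSeries S 2 = ⊥) :
    ∀ a ∈ S, ∀ b ∈ S, ∀ c ∈ S, ⁅⁅a, b⁆, c⁆ = 1 := by
  intro a ha b hb c hc
  have h1 : ⁅a, b⁆ ∈ Subgroup.lowerCentralSeries S 1 := commutator_mem_commutator ha hb
  have h2 : ⁅⁅a, b⁆, c⁆ ∈ Subgroup.lowerCentralSeries S 2 := commutator_mem_commutator h1 hc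
  rw [hcl, mem_bot] at h2
  exact h2

end Cfsg.Agent.Lib.SFourFree.ClassTwo
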