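import Cfsg.Agent.Lib.SFourFree.QuadFF
import Cfsg.Agent.Lib.SFourFree.ClassTwo
import Cfsg.Agent.Lib.Core.Constrained

/-!
# `2`-constrained `S₄`-free groups with Sylow `2`-subgroups of class two

`G = N_G(J_e(S)) O_{2'}(G)`.
-/

set_option autoImplicit false
set_option linter.unusedSectionVars false
set_option linter.unusedSimpArgs false
set_option linter.style.haveILetI false

namespace Cfsg.Agent.Lib.SFourFree.ClassTwoC

open Subgroup Cfsg
open scoped commutatorElement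
open Cfsg.Agent.Lib.PLocal.Thompson Cfsg.Agent.Lib.PLocal.ZJ Cfsg.Agent.Lib.Core.Basic
  Cfsg.Agent.Lib.Core.PSolvable Cfsg.Agent.Lib.Core.PSolvable2
  Cfsg.Agent.Lib.PLocal.ThompsonFunctor
  Cfsg.Agent.Lib.SFourFree.Offender Cfsg.Agent.Lib.SFourFree.ClassTwo
  Cfsg.Agent.Lib.QuadAct.Replacement Cfsg.Agent.Lib.QuadAct.OmegaZ
  Cfsg.Agent.Lib.QuadAct.FFBasic Cfsg.Agent.Lib.QuadAct.FFQuot
  Cfsg.Agent.Lib.SFourFree.QuadFF

universe u

variable {G : Type u} [Group G] [Finite G]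

/-- A section `S₃` of the automizer of a normal `2`-subgroup gives a section `S₄`. -/
theorem involves_sfour_of_quot (V : Subgroup G) [hVn : V.Normal] (hV : IsPGroup 2 V)
    (h1 : Cfsg.Involves (Equiv.Perm (Fin 3)) (G ⧸ Subgroup.centralizer (V : Set G))) :
    Cfsg.Involves (Equiv.Perm (Fin 4)) G := by
  classical
  refine Cfsg.Agent.Lib.PReduced.SFourSection.involves_sfour_of_automizer V hV ?_
  have hN : Subgroup.normalizer (V : Set G) = ⊤ := Subgroup.normalizer_eq_top_iff.mpr hVn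
  set N := Subgroup.normalizer (V : Set G) with hNdef
  set C := Subgroup.centralizer (V : Set G) with hC
  have hCn : C.Normal := inferInstance
  let ι₀ : G →* N := MonoidHom.codRestrict (MonoidHom.id G) N (fun g => by rw [hN]; trivial)
  let f₀ : G →* ↥N ⧸ C.subgroupOf N := (QuotientGroup.mk' (C.subgroupOf N)).comp ι₀
  have hf₀ : ∀ c ∈ C, f₀ c = 1 := by
    intro c hc
    show (QuotientGroup.mk (ι₀ c) : ↥N ⧸ C.subgroupOf N) = 1
    rw [QuotientGroup.eq_one_iff]
    exact hc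
  let f : G ⧸ C →* ↥N ⧸ C.subgroupOf N := QuotientGroup.lift C f₀ hf₀
  have hf : Function.Injective f := by
    rw [injective_iff_map_eq_one]
    intro q hq
    obtain ⟨g, rfl⟩ := QuotientGroup.mk_surjective q
    have h1 : (QuotientGroup.mk (ι₀ g) : ↥N ⧸ C.subgroupOf N) = 1 := hq
    rw [QuotientGroup.eq_one_iff] at h1
    rw [QuotientGroup.eq_one_iff]
    exact h1
  exact Cfsg.Agent.Lib.PReduced.Sections.involves_of_injective f hf h1

section quad

variable {V : Subgroup G} [hVn : V.Normal] {M : Type u} [AddCommGroup M] [Module (ZMod 2) M]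
  [Finite M] {ρ : G ⧸ Subgroup.centralizer (V : Set G) →* Module.End (ZMod 2) M} {ι : M → G}

theorem quad_of_coord (D : IsCoordQ V ρ ι)
    (hquad : ∀ P : Subgroup G, IsPGroup 2 P → ∀ a ∈ P, ∀ b ∈ P, ∀ v ∈ V,
      a * ⁅b, v⁆ * a⁻¹ = ⁅b, v⁆) : Quad ρ := by
  refine Quad.of_surj (ρ₁ := ρ.comp (piV V)) (piV V) piV_surj (fun g => rfl) ?_
  intro P hP a ha b hb m
  apply D.inj
  have hsub : ∀ x y : M, ι (x - y) = ι x * (ι y)⁻¹ := by
    intro x y
    have h1 := D.add (x - y) y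
    rw [sub_add_cancel] at h1
    rw [h1]
    group
  have h2 : ι ((ρ.comp (piV V)) b m - m) = ⁅b, ι m⁆ := by
    rw [hsub]
    have := D.conj b m
    show ι (ρ (QuotientGroup.mk b) m) * (ι m)⁻¹ = _
    rw [this, commutatorElement_def]
  have h3 : ∀ x : M, ι ((ρ.comp (piV V)) a x) = a * ι x * a⁻¹ := fun x => D.conj a x
  rw [h3, h2]
  exact hquad P hP a ha b hb _ (D.mem m)

end quad

/-- Quadratic version of the failure of factorization. -/
theorem isBest_le_centralizer_quad {V : Subgroup G} [hVn : V.Normal]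
    (hV : Cfsg.IsElementaryAbelian 2 V)
    (hO : Cfsg.pCore 2 (G ⧸ Subgroup.centralizer (V : Set G)) = ⊥)
    (hS4 : ¬ Cfsg.Involves (Equiv.Perm (Fin 4)) G)
    (hquad : ∀ P : Subgroup G, IsPGroup 2 P → ∀ a ∈ P, ∀ b ∈ P, ∀ v ∈ V,
      a * ⁅b, v⁆ * a⁻¹ = ⁅b, v⁆)
    {B : Subgroup G} (hB : Cfsg.IsBestOffenderOn 2 V B) :
    B ≤ Subgroup.centralizer (V : Set G) := by
  haveI : Fact (Nat.Prime 2) := ⟨Nat.prime_two⟩
  have hVp : IsPGroup 2 V := by
    rw [isPGroup_iff_pow_pow_eq_one]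
    rintro ⟨v, hv⟩
    exact ⟨1, by apply Subtype.ext; simpa using hV.2 v hv⟩
  obtain ⟨M, _, _, _, ρ, ι, D⟩ := exists_coordQ (p := 2) hV
  have hY := best_map_of_isBest D hB
  have hgood : Good ρ := ⟨D.faith, quad_of_coord D hquad, fun h =>
    hS4 (involves_sfour_of_quot V hVp h)⟩
  have hYp : IsPGroup 2 (B.map (piV V)) := by
    rw [isPGroup_iff_pow_pow_eq_one]
    rintro ⟨y, hy⟩
    refine ⟨1, Subtype.ext ?_⟩
    simpa using hY.ea.2 y hy
  have hoff : Nat.card M ≤ jj ρ (B.map (piV V)) := by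
    have := hY.le ⊥ bot_le
    rwa [Cfsg.Agent.Lib.QuadAct.FFBasic.jj_bot] at this
  have h1 := offender_eq_bot hgood hO hYp hoff
  have h2 : B ≤ (piV V).ker := (Subgroup.map_eq_bot_iff _).mp h1
  rwa [piV_ker] at h2

/-- The class two condition passes to all Sylow subgroups. -/
theorem comm_comm_all (S : Sylow 2 G)
    (hcl : ∀ a ∈ (S : Subgroup G), ∀ b ∈ (S : Subgroup G), ∀ c ∈ (S : Subgroup G), ⁅⁅a, b⁆, c⁆ = 1)
    (Q : Sylow 2 G) : ∀ a ∈ (Q : Subgroup G), ∀ b ∈ (Q : Subgroup G), ∀ c ∈ (Q : Subgroup G),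
      ⁅⁅a, b⁆, c⁆ = 1 := by
  obtain ⟨g, rfl⟩ := MulAction.exists_smul_eq G S Q
  intro a ha b hb c hc
  rw [Sylow.coe_subgroup_smul, Subgroup.mem_pointwise_smul_iff_inv_smul_mem] at ha hb hc
  have h := hcl _ ha _ hb _ hc
  have h2 := congrArg (MulAut.conj g) h
  rw [map_one, map_commutatorElement, map_commutatorElement] at h2
  have e : ∀ x : G, (MulAut.conj g) ((MulAut.conj g)⁻¹ • x) = x := by
    intro x
    simp [MulAut.smul_def]
    group
  rwa [e, e, e] at h2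

/-- The key statement: when `O_{2'}(G) = 1`, the Thompson subgroup lies in `O₂(G)`. -/
theorem jOf_le_pCore' (hc : centralizer (pCore 2 G : Set G) ≤ pCore 2 G)
    (hS4 : ¬ Cfsg.Involves (Equiv.Perm (Fin 4)) G) (S : Sylow 2 G)
    (hcl : ∀ a ∈ (S : Subgroup G), ∀ b ∈ (S : Subgroup G), ∀ c ∈ (S : Subgroup G), ⁅⁅a, b⁆, c⁆ = 1) :
    jOf 2 (S : Subgroup G) ≤ pCore 2 G := by
  classical
  set R : Subgroup G := pCore 2 G with hR
  have hRn : R.Normal := inferInstance
  have hRp : IsPGroup 2 R := pCore_isPGroup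
  have hRS : R ≤ (S : Subgroup G) := pCore_le_sylow S
  set Z : Subgroup G := R ⊓ centralizer (R : Set G) with hZ
  have hZn : Z.Normal := inferInstance
  set V₀ : Subgroup G := Cfsg.omegaOne 2 Z with hV₀
  have hV₀n : V₀.Normal := omegaOne_normal hZn
  have hV₀Z : V₀ ≤ Z := omegaOne_le_self
  have hV₀e : Cfsg.IsElementaryAbelian 2 V₀ := by
    refine isElementaryAbelian_closure ?_ ?_
    · rintro x ⟨hx, -⟩ y ⟨hy, -⟩
      exact mem_centralizer_iff.1 hy.2 x hx.1
    · rintro x ⟨-, hx⟩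
      exact hx
  set D : Subgroup G := sectionKernel R Z with hD
  have hDn : D.Normal := sectionKernel_normal R Z
  have hSD : (S : Subgroup G) ≤ D := by
    intro t ht
    rw [hD, mem_sectionKernel_iff]
    intro r hr
    refine Subgroup.mem_inf.2 ⟨?_, mem_centralizer_iff.2 fun r' hr' => ?_⟩
    · rw [commutatorElement_def]
      exact mul_mem (hRn.conj_mem _ hr t) (inv_mem hr)
    · have h1 := hcl t ht r (hRS hr) r' (hRS hr')
      rw [commutatorElement_eq_one_iff_mul_comm] at h1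
      exact h1.symm
  have hRD : R ≤ D := hRS.trans hSD
  have hV₀D : V₀ ≤ D := hV₀Z.trans (inf_le_left.trans hRD)
  -- `E`
  set E : Subgroup G := D ⊓ centralizer (V₀ : Set G) with hE
  have hEn : E.Normal := Subgroup.normal_inf_normal _ _
  have hEodd : ∀ c ∈ E, (orderOf c).Coprime 2 → c = 1 := by
    intro c hcE hodd
    have h1 : c ∈ centralizer (R : Set G) := by
      refine mem_centralizer_of_odd hRp hodd ?_ ?_
      · exact mem_sectionKernel_iff.1 hcE.1
      · intro z hz hz2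
        have hzV : z ∈ V₀ := Subgroup.subset_closure ⟨hz, hz2⟩
        exact (mem_centralizer_iff.1 hcE.2 z hzV).symm
    obtain ⟨k, hk⟩ := hRp ⟨c, hc h1⟩
    have h2 : c ^ 2 ^ k = 1 := congrArg Subtype.val hk
    have h3 : orderOf c ∣ 2 ^ k := orderOf_dvd_of_pow_eq_one h2
    have h4 : orderOf c = 1 := Nat.eq_one_of_dvd_coprimes (hodd.pow_right k) dvd_rfl h3
    exact orderOf_eq_one_iff.1 h4
  have hEp : IsPGroup 2 E := by
    rw [IsPGroup.iff_card]
    have hne : Nat.card E ≠ 0 := Nat.card_pos.ne'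
    refine ⟨_, Nat.eq_prime_pow_of_unique_prime_dvd hne ?_⟩
    intro q hq hqd
    by_contra hq2
    haveI : Fact q.Prime := ⟨hq⟩
    obtain ⟨x, hx⟩ := exists_prime_orderOf_dvd_card' (G := E) q hqd
    have h1 : ((x : E) : G) = 1 := by
      refine hEodd _ x.2 ?_
      rw [Subgroup.orderOf_coe, hx]
      exact (Nat.coprime_primes hq Nat.prime_two).2 hq2
    have h2 : x = 1 := Subtype.ext h1
    rw [h2, orderOf_one] at hx
    exact hq.one_lt.ne hx
  have hER : E ≤ R := le_pCore hEn hEp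
  -- the group `T = D`
  haveI hUn : (V₀.subgroupOf D).Normal := hV₀n.subgroupOf D
  set U : Subgroup D := V₀.subgroupOf D with hU
  have hUe : Cfsg.IsElementaryAbelian 2 U :=
    Cfsg.Agent.Lib.QuadAct.ZJ.isElementaryAbelian_comap D.subtype D.subtype_injective hV₀e
  have hmemC : ∀ x : D, x ∈ centralizer (U : Set D) → (x : G) ∈ E := by
    intro x hx
    refine ⟨x.2, mem_centralizer_iff.2 fun v hv => ?_⟩
    have h1 := mem_centralizer_iff.1 hx ⟨v, hV₀D hv⟩ (mem_subgroupOf.2 hv)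
    exact congrArg Subtype.val h1
  have hO' : pCore 2 (D ⧸ centralizer (U : Set D)) = ⊥ := by
    rw [eq_bot_iff]
    intro q hq
    obtain ⟨x, rfl⟩ := QuotientGroup.mk_surjective q
    rw [mem_bot, QuotientGroup.eq_one_iff]
    set f : D →* D ⧸ centralizer (U : Set D) := QuotientGroup.mk' _ with hf
    set F : Subgroup D := (pCore 2 (D ⧸ centralizer (U : Set D))).comap f with hF
    have hFn : F.Normal := Subgroup.Normal.comap inferInstance _
    have hker : IsPGroup 2 f.ker := by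
      rw [hf, QuotientGroup.ker_mk']
      have h1 : IsPGroup 2 ((centralizer (U : Set D)).map D.subtype) := by
        refine hEp.to_le ?_
        rintro _ ⟨y, hy, rfl⟩
        exact hmemC y hy
      exact h1.of_equiv (Subgroup.equivMapOfInjective _ _ D.subtype_injective).symm
    have hFp : IsPGroup 2 F := pCore_isPGroup.comap_of_ker_isPGroup f hker
    have hFD : F ≤ pCore 2 D := le_pCore hFn hFp
    have h2 := map_pCore_le_of_isSubnormal (p := 2) (K := D) hDn.isSubnormal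
    have hxR : (x : G) ∈ R := h2 ⟨x, hFD hq, rfl⟩
    refine mem_centralizer_iff.2 ?_
    rintro ⟨v, hv⟩ hv'
    have hvU : v ∈ V₀ := mem_subgroupOf.1 hv'
    have h3 := mem_centralizer_iff.1 (hV₀Z hvU).2 _ hxR
    exact Subtype.ext h3.symm
  have hS4D : ¬ Cfsg.Involves (Equiv.Perm (Fin 4)) D := fun h =>
    hS4 (Cfsg.Agent.Lib.PReduced.Sections.involves_of_injective D.subtype D.subtype_injective h)
  rw [jOf, sSup_le_iff]
  intro A hA
  have hA₁ := (isMaxIn_sylow_iff S).1 hA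
  have hAD : A ≤ D := hA.1.trans hSD
  set A' : Subgroup D := A.subgroupOf D with hA'
  have hAe : Cfsg.IsElementaryAbelian 2 A := hA.2.1
  have hcardA : Nat.card A' = Nat.card A :=
    Nat.card_congr (Subgroup.subgroupOfEquivOfLe hAD).toEquiv
  have hAmax : A' ∈ Cfsg.maxElementaryAbelianSubgroups 2 D := by
    refine ⟨Cfsg.Agent.Lib.QuadAct.ZJ.isElementaryAbelian_comap D.subtype D.subtype_injective hAe, ?_⟩
    intro B' hB'
    have h1 : Cfsg.IsElementaryAbelian 2 (B'.map D.subtype) :=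
      Cfsg.Agent.Lib.QuadAct.Stable.isElementaryAbelian_map hB' _
    have h2 := hA₁.1.2.2 _ le_top h1
    have h3 : Nat.card B' = Nat.card (B'.map D.subtype) :=
      Nat.card_congr (Subgroup.equivMapOfInjective _ _ D.subtype_injective).toEquiv
    rw [hcardA, h3]
    exact h2
  have hquadD : ∀ P : Subgroup D, IsPGroup 2 P → ∀ a ∈ P, ∀ b ∈ P, ∀ v ∈ U,
      a * ⁅b, v⁆ * a⁻¹ = ⁅b, v⁆ := by
    intro P hP a ha b hb v hv
    obtain ⟨Q, hQ⟩ := (hP.map D.subtype).exists_le_sylow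
    have haQ : (a : G) ∈ (Q : Subgroup G) := hQ ⟨a, ha, rfl⟩
    have hbQ : (b : G) ∈ (Q : Subgroup G) := hQ ⟨b, hb, rfl⟩
    have hvQ : (v : G) ∈ (Q : Subgroup G) := pCore_le_sylow Q (hV₀Z (mem_subgroupOf.1 hv)).1
    have h1 := comm_comm_all S hcl Q (b : G) hbQ (v : G) hvQ (a : G) haQ
    apply Subtype.ext
    have h2 : ((⁅b, v⁆ : D) : G) = ⁅(b : G), (v : G)⁆ := rfl
    show (a : G) * ((⁅b, v⁆ : D) : G) * (a : G)⁻¹ = ((⁅b, v⁆ : D) : G)
    rw [h2]
    rw [commutatorElement_eq_one_iff_mul_comm] at h1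
    rw [← h1]
    group
  have h1 := isBest_le_centralizer_quad hUe hO' hS4D hquadD (bestOffender_of_max hUe hAmax)
  intro a ha
  exact hER (hmemC ⟨a, hAD ha⟩ (h1 (mem_subgroupOf.2 ha)))


/-- When `O_{2'}(G) = 1`, the Thompson subgroup is normal. -/
theorem normalizer_eq_top_of_core' (hc : centralizer (pCore 2 G : Set G) ≤ pCore 2 G)
    (hS4 : ¬ Cfsg.Involves (Equiv.Perm (Fin 4)) G) (S : Sylow 2 G)
    (hcl : ∀ a ∈ (S : Subgroup G), ∀ b ∈ (S : Subgroup G), ∀ c ∈ (S : Subgroup G), ⁅⁅a, b⁆, c⁆ = 1) :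
    normalizer (jOf 2 (S : Subgroup G) : Set G) = ⊤ := by
  have hle := jOf_le_pCore' hc hS4 S hcl
  have h1 : jOf 2 (pCore 2 G) = jOf 2 (S : Subgroup G) := jOf_eq_of_le (pCore_le_sylow S) hle
  rw [← h1]
  have h2 := (pFunctor_jOf (e := 2) (p := 2) (Or.inr rfl)).normalizer_le (pCore 2 G) pCore_isPGroup
  rw [normalizer_eq_top (pCore 2 G)] at h2
  exact top_le_iff.1 h2

/-- The main theorem. -/
theorem normalizer_sup_core' (hcon : Cfsg.IsPConstrained 2 G)
    (hS4 : ¬ Cfsg.Involves (Equiv.Perm (Fin 4)) G) (S : Sylow 2 G)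
    (hcl : ∀ a ∈ (S : Subgroup G), ∀ b ∈ (S : Subgroup G), ∀ c ∈ (S : Subgroup G), ⁅⁅a, b⁆, c⁆ = 1) :
    normalizer (jOf 2 (S : Subgroup G) : Set G) ⊔ pPrimeCore 2 G = ⊤ := by
  classical
  set O : Subgroup G := pPrimeCore 2 G with hO
  have hOn : O.Normal := inferInstance
  have hOc : (Nat.card O).Coprime 2 := pPrimeCore_coprime
  let f : G →* G ⧸ O := QuotientGroup.mk' O
  have hf : Function.Surjective f := QuotientGroup.mk'_surjective O
  have hkerf : f.ker = O := QuotientGroup.ker_mk' O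
  let Sb : Sylow 2 (G ⧸ O) := S.mapSurjective hf
  have hSb : (Sb : Subgroup (G ⧸ O)) = (S : Subgroup G).map f := Sylow.coe_mapSurjective _ _
  have hSO : (S : Subgroup G) ⊓ O = ⊥ := inf_eq_bot_of_isPGroup_of_coprime S.isPGroup' hOc
  have hinf : (S : Subgroup G) ⊓ f.ker = ⊥ := by rw [hkerf]; exact hSO
  have hJb : jOf 2 (Sb : Subgroup (G ⧸ O)) = (jOf 2 (S : Subgroup G)).map f := by
    rw [hSb, jOf_map_of_inf f _ hinf]
  have hS4b : ¬ Cfsg.Involves (Equiv.Perm (Fin 4)) (G ⧸ O) := fun h =>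
    hS4 (Cfsg.Agent.Lib.PReduced.Sections.involves_comap f hf h)
  have hclb : ∀ a ∈ (Sb : Subgroup (G ⧸ O)), ∀ b ∈ (Sb : Subgroup (G ⧸ O)),
      ∀ c ∈ (Sb : Subgroup (G ⧸ O)), ⁅⁅a, b⁆, c⁆ = 1 := by
    intro a ha b hb c hc
    rw [hSb] at ha hb hc
    obtain ⟨a, ha, rfl⟩ := ha
    obtain ⟨b, hb, rfl⟩ := hb
    obtain ⟨c, hc, rfl⟩ := hc
    rw [← map_commutatorElement, ← map_commutatorElement, hcl a ha b hb c hc, map_one]
  have hcb : centralizer (pCore 2 (G ⧸ O) : Set (G ⧸ O)) ≤ pCore 2 (G ⧸ O) :=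
    Cfsg.Agent.Lib.Core.Constrained.isPConstrained_iff.mp hcon
  have hNb := normalizer_eq_top_of_core' hcb hS4b Sb hclb
  have hJbn : (jOf 2 (Sb : Subgroup (G ⧸ O))).Normal := normalizer_eq_top_iff.1 hNb
  set J : Subgroup G := jOf 2 (S : Subgroup G) with hJ
  have hJS : J ≤ (S : Subgroup G) := jOf_le _ _
  set X : Subgroup G := (jOf 2 (Sb : Subgroup (G ⧸ O))).comap f with hX
  have hXn : X.Normal := Subgroup.Normal.comap hJbn _
  have hXdec : ∀ x ∈ X, ∃ j ∈ J, ∃ o ∈ O, x = j * o := by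
    intro x hx
    have h1 : f x ∈ J.map f := by
      rw [← hJb]
      exact hx
    obtain ⟨j, hj, hjx⟩ := h1
    refine ⟨j, hj, j⁻¹ * x, ?_, by group⟩
    rw [← hkerf, MonoidHom.mem_ker, map_mul, map_inv, hjx, inv_mul_cancel]
  have hSX : (S : Subgroup G) ⊓ X = J := by
    apply le_antisymm
    · rintro t ⟨ht, htX⟩
      obtain ⟨j, hj, o, ho, rfl⟩ := hXdec t htX
      have hoS : o ∈ (S : Subgroup G) := by
        have : o = j⁻¹ * (j * o) := by group
        rw [this]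
        exact mul_mem (inv_mem (hJS hj)) ht
      have ho1 : o ∈ (S : Subgroup G) ⊓ O := ⟨hoS, ho⟩
      rw [hSO, mem_bot] at ho1
      rw [ho1, mul_one]
      exact hj
    · refine le_inf hJS ?_
      intro j hj
      show f j ∈ jOf 2 (Sb : Subgroup (G ⧸ O))
      rw [hJb]
      exact Subgroup.mem_map_of_mem f hj
  rw [eq_top_iff]
  intro g _
  obtain ⟨c, hc, y, hy, rfl⟩ := Cfsg.Agent.Lib.PLocal.AlperinG.exists_frattini_normal S X g
  rw [hSX] at hy
  obtain ⟨j, hj, o, ho, rfl⟩ := hXdec c hc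
  have hjN : j ∈ normalizer (J : Set G) := le_normalizer hj
  have e : j * o * y = (j * o * j⁻¹) * (j * y) := by group
  rw [e, sup_comm]
  exact Subgroup.mul_mem_sup (hOn.conj_mem o ho j) (mul_mem hjN hy)


end Cfsg.Agent.Lib.SFourFree.ClassTwoC
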