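import Cfsg.Agent.Lib.QuadAct.FFFail
import Cfsg.Agent.Lib.PReduced.SFourSection
import Cfsg.Agent.Lib.PReduced.Sections
import Cfsg.Agent.Lib.SameOrder.Main

/-!
# Offenders in `S₄`-free groups

If `A` acts on a normal elementary abelian `p`-subgroup `V` with `A / C_A(V)` abelian and
`|A| |C_V(A)| ≥ |V| |C_A(V)|` then `A` contains a best offender acting nontrivially.

In a `2`-separable group without sections `S₄`, with `O₂(G / C_G(V)) = 1`, nontrivial best
offenders do not exist.
-/

set_option autoImplicit false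
set_option linter.unusedSectionVars false
set_option linter.unusedSimpArgs false
set_option linter.style.haveILetI false

open scoped commutatorElement

namespace Cfsg.Agent.Lib.SFourFree.Offender

open Cfsg.Agent.Lib.QuadAct.Replacement Cfsg.Agent.Lib.QuadAct.Basic
open Cfsg.Agent.Lib.QuadAct.FFBasic Cfsg.Agent.Lib.QuadAct.FFQuot
open Cfsg.Agent.Lib.Core.Basic Cfsg.Agent.Lib.Core.PSolvable

universe u v

section offender

variable {G : Type u} [Group G] [Finite G] {p : ℕ} [Fact p.Prime]

/-- The conjugation formula for a quadratic element. -/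
lemma pow_mem_centralizer_of_quadratic {V : Subgroup G} (hV : Cfsg.IsElementaryAbelian p V)
    {b : G} (hbV : b ∈ Subgroup.normalizer (V : Set G))
    (hq : ∀ u ∈ V, b * ⁅u, b⁆ = ⁅u, b⁆ * b) : b ^ p ∈ Subgroup.centralizer (V : Set G) := by
  refine Subgroup.mem_centralizer_iff.mpr fun u hu => ?_
  have hc : ⁅u, b⁆ ∈ V := comm_mem hbV hu
  have hstep : ∀ j : ℕ, b ^ j * u * (b ^ j)⁻¹ = (⁅u, b⁆⁻¹) ^ j * u := by
    intro j
    induction j with
    | zero => simp
    | succ j ih =>
      have h1 : b * u * b⁻¹ = ⁅u, b⁆⁻¹ * u := conj_eq_comm_inv_mul b u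
      have h2 : b * ⁅u, b⁆⁻¹ * b⁻¹ = ⁅u, b⁆⁻¹ := by
        have := hq u hu
        have h3 : b * ⁅u, b⁆⁻¹ = ⁅u, b⁆⁻¹ * b := by
          have hc : Commute b ⁅u, b⁆ := this
          exact hc.inv_right.eq
        rw [h3]
        group
      have h4 : b * (⁅u, b⁆⁻¹) ^ j * b⁻¹ = (⁅u, b⁆⁻¹) ^ j := by
        rw [← conj_pow, h2]
      calc b ^ (j + 1) * u * (b ^ (j + 1))⁻¹ = b * (b ^ j * u * (b ^ j)⁻¹) * b⁻¹ := by
            rw [pow_succ']
            group
        _ = b * ((⁅u, b⁆⁻¹) ^ j * u) * b⁻¹ := by rw [ih]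
        _ = (b * (⁅u, b⁆⁻¹) ^ j * b⁻¹) * (b * u * b⁻¹) := by group
        _ = (⁅u, b⁆⁻¹) ^ j * (⁅u, b⁆⁻¹ * u) := by rw [h4, h1]
        _ = (⁅u, b⁆⁻¹) ^ (j + 1) * u := by
            rw [pow_succ, mul_assoc]
  have h5 := hstep p
  have h6 : (⁅u, b⁆⁻¹) ^ p = 1 := by
    rw [inv_pow, hV.2 _ hc, inv_one]
  rw [h6, one_mul] at h5
  calc u * b ^ p = (b ^ p * u * (b ^ p)⁻¹) * b ^ p := by rw [h5]
    _ = b ^ p * u := by group

/-- A subgroup inducing an abelian `p`-group which offends contains a best offender acting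
nontrivially. -/
theorem exists_best_of_offender {V A : Subgroup G} (hV : Cfsg.IsElementaryAbelian p V)
    (hAV : A ≤ Subgroup.normalizer (V : Set G))
    (hab : ⁅A, A⁆ ≤ Subgroup.centralizer (V : Set G)) (hAp : IsPGroup p A)
    (hne : ¬ A ≤ Subgroup.centralizer (V : Set G))
    (hoff : Nat.card V * Nat.card ↥(A ⊓ Subgroup.centralizer (V : Set G)) ≤ offProd V A) :
    ∃ B ≤ A, Cfsg.IsBestOffenderOn p V B ∧ ¬ B ≤ Subgroup.centralizer (V : Set G) := by
  classical
  have hVp : IsPGroup p V := by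
    rw [isPGroup_iff_pow_pow_eq_one]
    rintro ⟨v, hv⟩
    exact ⟨1, by apply Subtype.ext; simpa using hV.2 v hv⟩
  set C := Subgroup.centralizer (V : Set G) with hC
  set K := A ⊓ C with hK
  let F : Set (Subgroup G) := {B | B ≤ A ∧ K ≤ B ∧ ¬ B ≤ C}
  have hAF : A ∈ F := ⟨le_rfl, inf_le_left, hne⟩
  set N : ℕ := Nat.card G + 1 with hN
  have hcardle : ∀ B : Subgroup G, Nat.card B < N := fun B => by
    have := Subgroup.card_le_card_group B
    omega
  obtain ⟨B, hBF, hBmax⟩ := Set.exists_max_image F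
    (fun B : Subgroup G => offProd V B * N + (N - Nat.card B)) (Set.toFinite F) ⟨A, hAF⟩
  have hNpos : 0 < N := by omega
  -- comparison
  have hcmp : ∀ D ∈ F, offProd V D < offProd V B ∨
      (offProd V D = offProd V B ∧ Nat.card B ≤ Nat.card D) := by
    intro D hD
    have h1 : offProd V D * N + (N - Nat.card D) ≤ offProd V B * N + (N - Nat.card B) := hBmax D hD
    have h2 := hcardle D
    have h3 := hcardle B
    have h4 : 0 < Nat.card D := Nat.card_pos
    have h5 : 0 < Nat.card B := Nat.card_pos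
    rcases lt_trichotomy (offProd V D) (offProd V B) with h | h | h
    · exact Or.inl h
    · refine Or.inr ⟨h, ?_⟩
      rw [h] at h1
      omega
    · exfalso
      have h6 : (offProd V B + 1) * N ≤ offProd V D * N := Nat.mul_le_mul_right N h
      have h7 : (offProd V B + 1) * N = offProd V B * N + N := by ring
      omega
  have hle_of_mem : ∀ D ∈ F, offProd V D ≤ offProd V B := fun D hD =>
    (hcmp D hD).elim le_of_lt (fun h => h.1.le)
  have hAB : offProd V A ≤ offProd V B := hle_of_mem A hAF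
  have hBA : B ≤ A := hBF.1
  have hKB : K ≤ B := hBF.2.1
  have hBV : B ≤ Subgroup.normalizer (V : Set G) := hBA.trans hAV
  have hBab : ⁅B, B⁆ ≤ C := (Subgroup.commutator_mono hBA hBA).trans hab
  -- `B` is best
  have hbest : ∀ D : Subgroup G, D ≤ B → offProd V D ≤ offProd V B := by
    intro D hD
    by_cases hDK : D ⊔ K ≤ C
    · -- `D ≤ K`
      have h1 : D ≤ K := le_inf (hD.trans hBA) (le_sup_left.trans hDK)
      have h2 : Nat.card D ≤ Nat.card K := Subgroup.card_le_of_le h1
      have h3 : Nat.card ↥(V ⊓ Subgroup.centralizer (D : Set G)) ≤ Nat.card V :=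
        Subgroup.card_le_of_le inf_le_left
      calc offProd V D = Nat.card D * Nat.card ↥(V ⊓ Subgroup.centralizer (D : Set G)) := rfl
        _ ≤ Nat.card K * Nat.card V := Nat.mul_le_mul h2 h3
        _ = Nat.card V * Nat.card K := mul_comm _ _
        _ ≤ offProd V A := hoff
        _ ≤ offProd V B := hAB
    · have h1 : D ⊔ K ∈ F := ⟨sup_le (hD.trans hBA) inf_le_left, le_sup_right, hDK⟩
      refine le_trans ?_ (hle_of_mem _ h1)
      have h2 : Nat.card D ≤ Nat.card ↥(D ⊔ K) := Subgroup.card_le_of_le le_sup_left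
      have h3 : V ⊓ Subgroup.centralizer (D : Set G) ≤
          V ⊓ Subgroup.centralizer ((D ⊔ K : Subgroup G) : Set G) := by
        rintro v ⟨hv, hvc⟩
        refine ⟨hv, ?_⟩
        have h4 : D ⊔ K ≤ Subgroup.centralizer ({v} : Set G) := by
          refine sup_le ?_ ?_
          · intro d hd
            rw [Subgroup.mem_centralizer_singleton_iff]
            exact (Subgroup.mem_centralizer_iff.mp hvc d hd)
          · intro k hk
            rw [Subgroup.mem_centralizer_singleton_iff]
            exact ((Subgroup.mem_centralizer_iff.mp hk.2) v hv).symm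
        refine Subgroup.mem_centralizer_iff.mpr fun x hx => ?_
        exact Subgroup.mem_centralizer_singleton_iff.mp (h4 hx)
      exact Nat.mul_le_mul h2 (Subgroup.card_le_of_le h3)
  have hBC : ¬ B ≤ C := hBF.2.2
  -- `B` is quadratic
  have hstab : ∀ u ∈ V, stab B u = B := by
    intro u hu
    have hk1 := key_card hV.1 hBV hBab hu
    have hle := closure_gensAt_sup_le hBV hu
    have h2 := Subgroup.card_le_of_le hle
    have hstabB : stab B u ≤ B := inf_le_left
    have hkey : offProd V B ≤ offProd V (stab B u) := by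
      refine hk1.trans ?_
      unfold offProd
      rw [mul_comm]
      exact Nat.mul_le_mul_left _ h2
    have hKs : K ≤ stab B u := by
      refine le_inf hKB ?_
      intro k hk
      refine Subgroup.mem_centralizer_iff.mpr ?_
      intro y hy
      have hyV := gensAt_subset hBV hu hy
      exact (Subgroup.mem_centralizer_iff.mp hk.2 y hyV)
    by_cases hsC : stab B u ≤ C
    · exfalso
      have hsK : stab B u = K := le_antisymm (le_inf (hstabB.trans hBA) hsC) hKs
      set W1 : Subgroup G := Subgroup.closure (gensAt B u) with hW1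
      set c := V ⊓ Subgroup.centralizer (B : Set G) with hc
      have h3 : Nat.card V * Nat.card K ≤ Nat.card ↥(W1 ⊔ c) * Nat.card K := by
        calc Nat.card V * Nat.card K ≤ offProd V A := hoff
          _ ≤ offProd V B := hAB
          _ ≤ Nat.card ↥(W1 ⊔ c) * Nat.card (stab B u) := hk1
          _ = _ := by rw [hsK]
      have h4 : Nat.card V ≤ Nat.card ↥(W1 ⊔ c) := Nat.le_of_mul_le_mul_right h3 Nat.card_pos
      have hW1V : W1 ≤ V := by
        rw [hW1, Subgroup.closure_le]
        exact gensAt_subset hBV hu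
      have h5 : W1 ⊔ c ≤ V := sup_le hW1V inf_le_left
      have h6 : W1 ⊔ c = V := Subgroup.eq_of_le_of_card_ge h5 h4
      -- contradiction by nilpotence
      set W := ⁅V, B⁆ with hW
      have hWV : W ≤ V := commutator_le_of_le_normalizer hBV
      have hW1W : W1 ≤ W := by
        rw [hW1, Subgroup.closure_le]
        rintro _ ⟨b, hb, rfl⟩
        exact Subgroup.commutator_mem_commutator hu hb
      have hsub : W ≤ ⁅W, B⁆ := by
        let T : Subgroup G :=
          { carrier := {v | v ∈ V ∧ ∀ a ∈ B, ⁅v, a⁆ ∈ ⁅W, B⁆}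
            one_mem' := ⟨V.one_mem, fun a _ => by simp [commutatorElement_def]⟩
            mul_mem' := by
              rintro x y ⟨hx, hx'⟩ ⟨hy, hy'⟩
              refine ⟨V.mul_mem hx hy, fun a ha => ?_⟩
              rw [comm_mul_left hV.1 (hBV ha) hx hy]
              exact Subgroup.mul_mem _ (hx' a ha) (hy' a ha)
            inv_mem' := by
              rintro x ⟨hx, hx'⟩
              refine ⟨V.inv_mem hx, fun a ha => ?_⟩
              rw [comm_inv_left hV.1 (hBV ha) hx]
              exact Subgroup.inv_mem _ (hx' a ha) }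
        have hT1 : W ≤ T := fun w hw => ⟨hWV hw, fun a ha => Subgroup.commutator_mem_commutator hw ha⟩
        have hT2 : c ≤ T := by
          rintro z ⟨hz, hz'⟩
          refine ⟨hz, fun a ha => ?_⟩
          have := (Subgroup.mem_centralizer_iff.mp hz') a ha
          rw [commutatorElement_eq_one_iff_mul_comm.mpr this.symm]
          exact Subgroup.one_mem _
        have hVT : V ≤ T := by
          rw [← h6]
          exact sup_le (hW1W.trans hT1) hT2
        rw [hW, Subgroup.commutator_le]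
        intro v hv a ha
        exact (hVT hv).2 a ha
      have hWbot : W = ⊥ := by
        refine eq_bot_of_le_commutator hVp hBV ?_ hWV hsub
        intro a ha
        obtain ⟨k, hk⟩ := (isPGroup_iff_pow_pow_eq_one.mp hAp) ⟨a, hBA ha⟩
        refine ⟨k, ?_⟩
        have h7 : a ^ p ^ k = 1 := congrArg Subtype.val hk
        rw [h7]
        exact Subgroup.one_mem _
      apply hBC
      intro b hb
      refine Subgroup.mem_centralizer_iff.mpr fun v hv => ?_
      have := Subgroup.commutator_mem_commutator hv hb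
      rw [← hW, hWbot, Subgroup.mem_bot] at this
      exact commutatorElement_eq_one_iff_mul_comm.mp this
    · have hs : stab B u ∈ F := ⟨hstabB.trans hBA, hKs, hsC⟩
      rcases hcmp _ hs with h | h
      · omega
      · exact Subgroup.eq_of_le_of_card_ge hstabB h.2
  refine ⟨B, hBA, ⟨hbest, hBab, fun b hb => ?_⟩, hBC⟩
  refine pow_mem_centralizer_of_quadratic hV (hBV hb) fun u hu => ?_
  have h1 : b ∈ stab B u := by rw [hstab u hu]; exact hb
  exact (Subgroup.mem_centralizer_iff.mp h1.2 ⁅u, b⁆ ⟨b, hb, rfl⟩).symm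

end offender

section module

variable {p : ℕ} [Fact p.Prime] {Γ : Type u} [Group Γ] [Finite Γ] {M : Type v} [AddCommGroup M]
  [Module (ZMod p) M] [Finite M] {ρ : Γ →* Module.End (ZMod p) M}

theorem jj_comp_subtype (L : Subgroup Γ) (Z : Subgroup L) :
    jj (ρ.comp L.subtype) Z = jj ρ (Z.map L.subtype) := by
  unfold jj
  have h1 : Nat.card Z = Nat.card (Z.map L.subtype) :=
    Nat.card_congr (Subgroup.equivMapOfInjective _ _ L.subtype_injective).toEquiv
  have h2 : fix (ρ.comp L.subtype) Z = fix ρ (Z.map L.subtype) := by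
    ext m
    constructor
    · rintro h _ ⟨g, hg, rfl⟩
      exact h g hg
    · intro h g hg
      exact h _ ⟨g, hg, rfl⟩
  rw [h1, h2]

theorem best_comp_subtype {Y L : Subgroup Γ} (hY : Best ρ Y) (hYL : Y ≤ L) :
    Best (ρ.comp L.subtype) (Y.subgroupOf L) := by
  refine ⟨fun B hB => ?_, ?_⟩
  · rw [jj_comp_subtype, jj_comp_subtype, Subgroup.map_subgroupOf_eq_of_le hYL]
    refine hY.le _ ?_
    rintro _ ⟨b, hb, rfl⟩
    exact hB hb
  · exact Cfsg.Agent.Lib.QuadAct.ZJ.isElementaryAbelian_comap _ L.subtype_injective hY.ea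

theorem jj_conj (g : Γ) (Z : Subgroup Γ) : jj ρ (Z.map (MulAut.conj g).toMonoidHom) = jj ρ Z := by
  unfold jj
  have h1 : Nat.card (Z.map (MulAut.conj g).toMonoidHom) = Nat.card Z :=
    (Nat.card_congr (Subgroup.equivMapOfInjective _ _ (MulAut.conj g).injective).toEquiv).symm
  have hg : ∀ m : M, ρ g⁻¹ (ρ g m) = m := fun m => by
    rw [← Module.End.mul_apply, ← map_mul, inv_mul_cancel, map_one, Module.End.one_apply]
  have hg' : ∀ m : M, ρ g (ρ g⁻¹ m) = m := fun m => by
    rw [← Module.End.mul_apply, ← map_mul, mul_inv_cancel, map_one, Module.End.one_apply]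
  have h2 : Nat.card (fix ρ (Z.map (MulAut.conj g).toMonoidHom)) = Nat.card (fix ρ Z) := by
    refine Nat.card_congr (Equiv.ofBijective (fun m => ⟨ρ g⁻¹ m, ?_⟩) ⟨?_, ?_⟩)
    · intro z hz
      have h3 := m.2 _ (Subgroup.mem_map_of_mem (MulAut.conj g).toMonoidHom hz)
      have h4 : ρ (g * z * g⁻¹) (m : M) = m := h3
      rw [map_mul, map_mul, Module.End.mul_apply, Module.End.mul_apply] at h4
      have h5 := congrArg (ρ g⁻¹) h4
      rw [hg] at h5
      exact h5
    · intro m n h
      apply Subtype.ext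
      have h3 : ρ g⁻¹ (m : M) = ρ g⁻¹ (n : M) := congrArg Subtype.val h
      have h4 := congrArg (ρ g) h3
      rwa [hg', hg'] at h4
    · rintro ⟨n, hn⟩
      refine ⟨⟨ρ g n, ?_⟩, ?_⟩
      · rintro _ ⟨z, hz, rfl⟩
        show ρ (g * z * g⁻¹) (ρ g n) = ρ g n
        rw [map_mul, map_mul, Module.End.mul_apply, Module.End.mul_apply, hg, hn z hz]
      · apply Subtype.ext
        exact hg n
  rw [h1, h2]

theorem best_conj {Y : Subgroup Γ} (hY : Best ρ Y) (g : Γ) :
    Best ρ (Y.map (MulAut.conj g).toMonoidHom) := by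
  refine ⟨fun B hB => ?_, ?_⟩
  · have h1 : (B.map (MulAut.conj g⁻¹).toMonoidHom).map (MulAut.conj g).toMonoidHom = B := by
      rw [Subgroup.map_map]
      convert Subgroup.map_id B
      ext x
      simp
      group
    have h2 : jj ρ (B.map (MulAut.conj g⁻¹).toMonoidHom) ≤ jj ρ Y := by
      refine hY.le _ ?_
      rintro _ ⟨b, hb, rfl⟩
      obtain ⟨y, hy, rfl⟩ := hB hb
      have : (MulAut.conj g⁻¹).toMonoidHom ((MulAut.conj g).toMonoidHom y) = y := by
        simp
        group
      rw [this]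
      exact hy
    have h3 : jj ρ B = jj ρ (B.map (MulAut.conj g⁻¹).toMonoidHom) := by
      conv_lhs => rw [← h1]
      exact jj_conj g _
    have h4 : jj ρ (Y.map (MulAut.conj g).toMonoidHom) = jj ρ Y := jj_conj g Y
    rw [h3, h4]
    exact h2
  · exact Cfsg.Agent.Lib.QuadAct.Stable.isElementaryAbelian_map hY.ea _

/-- The join of all best offenders. -/
def bestJoin (ρ : Γ →* Module.End (ZMod p) M) : Subgroup Γ :=
  ⨆ A : {A : Subgroup Γ // Best ρ A}, (A : Subgroup Γ)

theorem bestJoin_normal : (bestJoin ρ).Normal := by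
  constructor
  intro n hn g
  have h : (bestJoin ρ).map (MulAut.conj g).toMonoidHom ≤ bestJoin ρ := by
    unfold bestJoin
    rw [Subgroup.map_iSup]
    refine iSup_le fun A => ?_
    exact le_iSup (fun A : {A : Subgroup Γ // Best ρ A} => (A : Subgroup Γ)) ⟨_, best_conj A.2 g⟩
  exact h ⟨n, hn, rfl⟩

theorem hgen_bestJoin (L : Subgroup Γ) (hL : L = bestJoin ρ) (g : L) :
    g ∈ ⨆ A : {A : Subgroup L // Best (ρ.comp L.subtype) A},
      (A : Subgroup L) := by
  have h1 : bestJoin ρ ≤ (⨆ A : {A : Subgroup L // Best (ρ.comp L.subtype) A},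
      (A : Subgroup L)).map L.subtype := by
    unfold bestJoin
    refine iSup_le fun A => ?_
    have hAL : (A : Subgroup Γ) ≤ L := by
      rw [hL]
      exact le_iSup (fun A : {A : Subgroup Γ // Best ρ A} => (A : Subgroup Γ)) A
    have h2 := le_iSup (fun A : {A : Subgroup L // Best (ρ.comp L.subtype) A} => (A : Subgroup L))
      ⟨_, best_comp_subtype A.2 hAL⟩
    have h3 := Subgroup.map_mono (f := L.subtype) h2
    rwa [Subgroup.map_subgroupOf_eq_of_le hAL] at h3
  have h4 : L ≤ (⨆ A : {A : Subgroup L // Best (ρ.comp L.subtype) A},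
      (A : Subgroup L)).map L.subtype := hL.le.trans h1
  obtain ⟨g', hg', e⟩ := h4 g.2
  have : g' = g := Subtype.ext e
  rwa [← this]

/-- A nontrivial best offender gives `SL₂(p)`. -/
theorem exists_sl2_of_best (hρ : Function.Injective ρ) (hsep : Cfsg.IsPSolvable p Γ)
    (hO : Cfsg.pCore p Γ = ⊥) {Y : Subgroup Γ} (hY : Best ρ Y) (hne : Y ≠ ⊥) :
    (p = 2 ∨ p = 3) ∧ ∃ E₀ : Subgroup Γ, Nonempty (E₀ ≃* Matrix.SpecialLinearGroup (Fin 2) (ZMod p)) := by
  set L := bestJoin ρ with hL
  have hLn : L.Normal := bestJoin_normal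
  have hYL : Y ≤ L := le_iSup (fun A : {A : Subgroup Γ // Best ρ A} => (A : Subgroup Γ)) ⟨Y, hY⟩
  have hnt : Nontrivial L := by
    rw [Subgroup.nontrivial_iff_ne_bot]
    intro h
    rw [h, le_bot_iff] at hYL
    exact hne hYL
  obtain ⟨hp, E₀, -, ⟨e⟩⟩ := exists_factor
    (show Function.Injective (ρ.comp L.subtype) from hρ.comp L.subtype_injective)
    (hS1_of hsep hO hLn) (hgen_bestJoin L rfl) hnt
  exact ⟨hp, E₀.map L.subtype,
    ⟨(Subgroup.equivMapOfInjective _ _ L.subtype_injective).symm.trans e⟩⟩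

end module

section sfour

variable {G : Type u} [Group G] [Finite G]

/-- `SL₂(2)` is `S₃`. -/
theorem nonempty_sl22_equiv :
    Nonempty (Matrix.SpecialLinearGroup (Fin 2) (ZMod 2) ≃* Equiv.Perm (Fin 3)) := by
  refine Cfsg.Agent.Lib.SameOrder.Main.iso_perm_of_card_six
    Cfsg.Agent.Lib.QuadAct.FFCore.card_sl2_two ?_
  decide

/-- A subgroup `SL₂(2)` of the automizer of a normal `2`-subgroup gives a section `S₄`. -/
theorem involves_sfour_of_sl2 (V : Subgroup G) [hVn : V.Normal] (hV : IsPGroup 2 V)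
    (E₀ : Subgroup (G ⧸ Subgroup.centralizer (V : Set G)))
    (e : Nonempty (E₀ ≃* Matrix.SpecialLinearGroup (Fin 2) (ZMod 2))) :
    Cfsg.Involves (Equiv.Perm (Fin 4)) G := by
  classical
  obtain ⟨e⟩ := e
  obtain ⟨e'⟩ := nonempty_sl22_equiv
  refine Cfsg.Agent.Lib.PReduced.SFourSection.involves_sfour_of_automizer V hV ?_
  have hN : Subgroup.normalizer (V : Set G) = ⊤ := Subgroup.normalizer_eq_top_iff.mpr hVn
  set N := Subgroup.normalizer (V : Set G) with hNdef
  set C := Subgroup.centralizer (V : Set G) with hC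
  have hCn : C.Normal := inferInstance
  -- the map `G / C → N / C`
  let ι₀ : G →* N := MonoidHom.codRestrict (MonoidHom.id G) N (fun g => by rw [hN]; trivial)
  let f₀ : G →* ↥N ⧸ C.subgroupOf N := (QuotientGroup.mk' (C.subgroupOf N)).comp ι₀
  have hf₀ : ∀ c ∈ C, f₀ c = 1 := by
    intro c hc
    show (QuotientGroup.mk (ι₀ c) : ↥N ⧸ C.subgroupOf N) = 1
    rw [QuotientGroup.eq_one_iff]
    exact hc
  let f : G ⧸ C →* ↥N ⧸ C.subgroupOf N := QuotientGroup.lift C f₀ hf₀
  have hf : Function.Injective f := by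
    rw [injective_iff_map_eq_one]
    intro q hq
    obtain ⟨g, rfl⟩ := QuotientGroup.mk_surjective q
    have h1 : (QuotientGroup.mk (ι₀ g) : ↥N ⧸ C.subgroupOf N) = 1 := hq
    rw [QuotientGroup.eq_one_iff] at h1
    rw [QuotientGroup.eq_one_iff]
    exact h1
  have h1 : Cfsg.Involves (Equiv.Perm (Fin 3)) E₀ :=
    Cfsg.Agent.Lib.PReduced.Sections.involves_of_hom ⊤
      ((e.trans e').toMonoidHom.comp (⊤ : Subgroup E₀).subtype) (fun y => by
        obtain ⟨x, rfl⟩ := (e.trans e').surjective y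
        exact ⟨⟨x, trivial⟩, rfl⟩)
  have h2 : Cfsg.Involves (Equiv.Perm (Fin 3)) (G ⧸ C) :=
    Cfsg.Agent.Lib.PReduced.Sections.involves_of_injective E₀.subtype E₀.subtype_injective h1
  exact Cfsg.Agent.Lib.PReduced.Sections.involves_of_injective f hf h2

end sfour

section main

variable {G : Type u} [Group G] [Finite G] {p : ℕ} [Fact p.Prime] {V : Subgroup G} [hVn : V.Normal]
  {M : Type u} [AddCommGroup M] [Module (ZMod p) M] [Finite M]
  {ρ : G ⧸ Subgroup.centralizer (V : Set G) →* Module.End (ZMod p) M} {ι : M → G}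

theorem mem_fix_map_iff (D : IsCoordQ V ρ ι) {B : Subgroup G} (m : M) :
    m ∈ fix ρ (B.map (piV V)) ↔ ι m ∈ V ⊓ Subgroup.centralizer (B : Set G) := by
  constructor
  · intro h
    refine ⟨D.mem m, Subgroup.mem_centralizer_iff.mpr fun g hg => ?_⟩
    have h1 := h _ (Subgroup.mem_map_of_mem (piV V) hg)
    have h2 := D.conj g m
    have h3 : ρ (QuotientGroup.mk g) m = m := h1
    rw [h3] at h2
    calc g * ι m = (g * ι m * g⁻¹) * g := by group
      _ = ι m * g := by rw [← h2]
  · rintro ⟨-, hc⟩ _ ⟨g, hg, rfl⟩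
    apply D.inj
    show ι (ρ (QuotientGroup.mk g) m) = ι m
    rw [D.conj]
    have := Subgroup.mem_centralizer_iff.mp hc g hg
    rw [this]
    group

theorem card_fix_map (D : IsCoordQ V ρ ι) {B : Subgroup G} :
    Nat.card (fix ρ (B.map (piV V))) = Nat.card ↥(V ⊓ Subgroup.centralizer (B : Set G)) := by
  refine Nat.card_congr (Equiv.ofBijective
    (fun m => ⟨ι m, (mem_fix_map_iff D m).mp m.2⟩) ⟨?_, ?_⟩)
  · intro m n h
    exact Subtype.ext (D.inj (congrArg Subtype.val h))
  · rintro ⟨v, hv⟩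
    obtain ⟨m, rfl⟩ := D.surj v hv.1
    exact ⟨⟨m, (mem_fix_map_iff D m).mpr hv⟩, rfl⟩

theorem jj_map' (D : IsCoordQ V ρ ι) {B : Subgroup G} :
    jj ρ (B.map (piV V)) =
      Nat.card (B.map (piV V)) * Nat.card ↥(V ⊓ Subgroup.centralizer (B : Set G)) := by
  unfold jj
  rw [card_fix_map D]

/-- A best offender in `G` induces a best offender on the module. -/
theorem best_map_of_isBest (D : IsCoordQ V ρ ι) {A : Subgroup G}
    (hA : Cfsg.IsBestOffenderOn p V A) : Best ρ (A.map (piV V)) := by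
  refine ⟨fun Y hY => ?_, ?_⟩
  · set B := A ⊓ Y.comap (piV V) with hBdef
    have hBmap : B.map (piV V) = Y := by
      apply le_antisymm
      · rintro _ ⟨b, ⟨-, hb⟩, rfl⟩
        exact hb
      · intro y hy
        obtain ⟨a, ha, ea⟩ := hY hy
        exact ⟨a, ⟨ha, (show piV V a ∈ Y by rw [ea]; exact hy)⟩, ea⟩
    have hBA : B ≤ A := inf_le_left
    have hinf : B ⊓ (piV V).ker = A ⊓ (piV V).ker := by
      apply le_antisymm (inf_le_inf_right _ hBA)
      rintro a ⟨ha, hk⟩
      refine ⟨⟨ha, ?_⟩, hk⟩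
      show piV V a ∈ Y
      rw [MonoidHom.mem_ker.mp hk]
      exact Y.one_mem
    have h1 := hA.1 B hBA
    rw [card_eq_map_mul_inf (piV V) B, card_eq_map_mul_inf (piV V) A, hinf] at h1
    rw [← hBmap, jj_map' D, jj_map' D]
    have h2 : 0 < Nat.card ↥(A ⊓ (piV V).ker) := Nat.card_pos
    refine Nat.le_of_mul_le_mul_right ?_ h2
    calc _ = Nat.card ↥(B.map (piV V)) * Nat.card ↥(A ⊓ (piV V).ker) *
          Nat.card ↥(V ⊓ Subgroup.centralizer (B : Set G)) := by ring
      _ ≤ _ := h1
      _ = _ := by ring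
  · have hker : ∀ x ∈ Subgroup.centralizer (V : Set G), piV V x = 1 := by
      intro x hx
      rw [← MonoidHom.mem_ker, piV_ker]
      exact hx
    refine ⟨⟨⟨?_⟩⟩, ?_⟩
    · rintro ⟨_, a, ha, rfl⟩ ⟨_, b, hb, rfl⟩
      apply Subtype.ext
      show piV V a * piV V b = piV V b * piV V a
      have h1 := hker _ (hA.2.1 (Subgroup.commutator_mem_commutator ha hb))
      rw [commutatorElement_def, map_mul, map_mul, map_mul, map_inv, map_inv] at h1
      have h2 : piV V a * piV V b * (piV V a)⁻¹ = piV V b := by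
        rw [mul_inv_eq_one] at h1
        exact h1
      rw [mul_inv_eq_iff_eq_mul] at h2
      exact h2
    · rintro _ ⟨a, ha, rfl⟩
      rw [← map_pow]
      exact hker _ (hA.2.2 a ha)

end main

section sfourfree

variable {G : Type u} [Group G] [Finite G] {V : Subgroup G} [hVn : V.Normal]

/-- In an `S₄`-free group, best offenders centralize. -/
theorem isBest_le_centralizer (hsep : Cfsg.IsPSolvable 2 G) (hV : Cfsg.IsElementaryAbelian 2 V)
    (hO : Cfsg.pCore 2 (G ⧸ Subgroup.centralizer (V : Set G)) = ⊥)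
    (hS4 : ¬ Cfsg.Involves (Equiv.Perm (Fin 4)) G) {B : Subgroup G}
    (hB : Cfsg.IsBestOffenderOn 2 V B) : B ≤ Subgroup.centralizer (V : Set G) := by
  haveI : Fact (Nat.Prime 2) := ⟨Nat.prime_two⟩
  by_contra hne
  have hVp : IsPGroup 2 V := by
    rw [isPGroup_iff_pow_pow_eq_one]
    rintro ⟨v, hv⟩
    exact ⟨1, by apply Subtype.ext; simpa using hV.2 v hv⟩
  obtain ⟨M, _, _, _, ρ, ι, D⟩ := exists_coordQ (p := 2) hV
  have hY := best_map_of_isBest D hB
  have hYne : B.map (piV V) ≠ ⊥ := by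
    intro h
    apply hne
    have h1 : B ≤ (piV V).ker := (Subgroup.map_eq_bot_iff _).mp h
    rwa [piV_ker] at h1
  have hsep' : Cfsg.IsPSolvable 2 (G ⧸ Subgroup.centralizer (V : Set G)) :=
    isPSolvable_of_surjective _ piV_surj hsep
  obtain ⟨-, E₀, he⟩ := exists_sl2_of_best D.faith hsep' hO hY hYne
  exact hS4 (involves_sfour_of_sl2 V hVp E₀ he)

/-- In an `S₄`-free group, subgroups inducing abelian `2`-groups which offend centralize. -/
theorem offender_le_centralizer (hsep : Cfsg.IsPSolvable 2 G) (hV : Cfsg.IsElementaryAbelian 2 V)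
    (hO : Cfsg.pCore 2 (G ⧸ Subgroup.centralizer (V : Set G)) = ⊥)
    (hS4 : ¬ Cfsg.Involves (Equiv.Perm (Fin 4)) G) {A : Subgroup G}
    (hab : ⁅A, A⁆ ≤ Subgroup.centralizer (V : Set G)) (hAp : IsPGroup 2 A)
    (hoff : Nat.card V * Nat.card ↥(A ⊓ Subgroup.centralizer (V : Set G)) ≤ offProd V A) :
    A ≤ Subgroup.centralizer (V : Set G) := by
  haveI : Fact (Nat.Prime 2) := ⟨Nat.prime_two⟩
  by_contra hne
  have hAV : A ≤ Subgroup.normalizer (V : Set G) := by
    rw [Subgroup.normalizer_eq_top_iff.mpr hVn]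
    exact le_top
  obtain ⟨B, -, hB, hBC⟩ := exists_best_of_offender hV hAV hab hAp hne hoff
  exact hBC (isBest_le_centralizer hsep hV hO hS4 hB)

end sfourfree

end Cfsg.Agent.Lib.SFourFree.Offender
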