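import Cfsg.Agent.Lib.SFourFree.Offender
import Cfsg.Agent.Lib.PLocal.ThompsonAmb
import Cfsg.Agent.Lib.PLocal.ThompsonComplement

/-!
# Thompson's normal `p`-complement theorem for abelian `J(P)`: `p` odd or `S₄`-free
-/

set_option autoImplicit false
set_option linter.unusedSectionVars false
set_option linter.unusedSimpArgs false
set_option linter.style.haveILetI false

namespace Cfsg.Agent.Lib.SFourFree.Complement

open Subgroup Cfsg
open scoped commutatorElement
open Cfsg.Agent.Lib.PLocal.Thompson Cfsg.Agent.Lib.PLocal.ZJ Cfsg.Agent.Lib.PLocal.ZJConstrained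
  Cfsg.Agent.Lib.PLocal.Stability Cfsg.Agent.Lib.Core.Basic Cfsg.Agent.Lib.Core.PSolvable
  Cfsg.Agent.Lib.Transfer.Basic Cfsg.Agent.Lib.Core.CoprimeMap
  Cfsg.Agent.Lib.PLocal.ThompsonReduction Cfsg.Agent.Lib.PLocal.ThompsonInduction
  Cfsg.Agent.Lib.PLocal.ThompsonFunctor Cfsg.Agent.Lib.PLocal.ConjFamily
  Cfsg.Agent.Lib.PLocal.ThompsonComplement Cfsg.Agent.Lib.PLocal.ThompsonAmb
  Cfsg.Agent.Lib.QuadAct.FFFail Cfsg.Agent.Lib.SFourFree.Offender
  Cfsg.Agent.Lib.QuadAct.Replacement

universe u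

variable {G : Type u} [Group G] [Finite G] {p : ℕ} [Fact p.Prime] {P : Sylow p G} {Q₀ : Subgroup G}

/-- Reduced groups are `p`-solvable. -/
theorem isPSolvable_of_reduced (hr : Reduced p G P Q₀) : IsPSolvable p G := by
  classical
  set Q : Subgroup G := pCore p G with hQ
  have hQn : Q.Normal := inferInstance
  have hLn : (Q ⊔ Q₀).Normal := hr.normal
  let f : G →* G ⧸ Q := QuotientGroup.mk' Q
  have hf : Function.Surjective f := QuotientGroup.mk'_surjective Q
  have hQp : IsPGroup p Q := pCore_isPGroup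
  refine isPSolvable_of_normal_of_quotient Q (Or.inl ?_) ?_
  · obtain ⟨k, hk⟩ := IsPGroup.iff_card.1 hQp
    exact ⟨k, hk⟩
  set N : Subgroup (G ⧸ Q) := (Q ⊔ Q₀).map f with hN
  have hNn : N.Normal := hLn.map f hf
  have hNeq : N = Q₀.map f := by
    rw [hN, Subgroup.map_sup]
    have : Q.map f = ⊥ := by
      rw [Subgroup.map_eq_bot_iff]
      rw [show f.ker = Q from QuotientGroup.ker_mk' Q]
    rw [this, bot_sup_eq]
  refine isPSolvable_of_normal_of_quotient N (Or.inr ?_) ?_
  · rw [hNeq]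
    exact Nat.Coprime.coprime_dvd_left (Subgroup.card_map_dvd _ _) hr.coprime
  refine isPSolvable_of_isPOrCoprime (Or.inl ?_)
  have hq : IsPGroup p ((G ⧸ Q) ⧸ N) := by
    intro z
    obtain ⟨y, rfl⟩ := QuotientGroup.mk'_surjective N z
    obtain ⟨g, rfl⟩ := hf y
    obtain ⟨k, hk⟩ := hr.quot g
    refine ⟨k, ?_⟩
    rw [← map_pow, ← map_pow, QuotientGroup.mk'_apply, QuotientGroup.eq_one_iff]
    exact Subgroup.mem_map_of_mem f hk
  obtain ⟨k, hk⟩ := IsPGroup.iff_card.1 hq
  exact ⟨k, hk⟩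

/-- If `N_G(J(P)) ≤ P`, every normal subgroup containing `J(P)` contains `Q₀`. -/
lemma le_of_jOf_le' {e : ℕ} (he : e = 0 ∨ e = p) (hr : Reduced p G P Q₀)
    (hNJ : normalizer (jOf e (P : Subgroup G) : Set G) ≤ P)
    (C : Subgroup G) [hCn : C.Normal] (hJC : jOf e (P : Subgroup G) ≤ C) : Q₀ ≤ C := by
  intro x hx
  obtain ⟨c, hc, y, hy, rfl⟩ := Cfsg.Agent.Lib.PLocal.AlperinG.exists_frattini_normal P C x
  have hTp : IsPGroup p ((P : Subgroup G) ⊓ C : Subgroup G) := P.isPGroup'.to_le inf_le_left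
  have hJ : jOf e ((P : Subgroup G) ⊓ C) = jOf e (P : Subgroup G) :=
    jOf_eq_of_le inf_le_left (le_inf (jOf_le _ _) hJC)
  have hy1 : y ∈ normalizer (jOf e (P : Subgroup G) : Set G) := by
    have h1 := (pFunctor_jOf (e := e) (p := p) he).normalizer_le _ hTp hy
    rw [hJ] at h1
    exact h1
  have hyP : y ∈ (P : Subgroup G) := hNJ hy1
  obtain ⟨k, hk⟩ := P.isPGroup' ⟨y, hyP⟩
  have hk1 : y ^ p ^ k = 1 := congrArg Subtype.val hk
  have hord : (orderOf (c * y)).Coprime p := by
    have h1 : orderOf (c * y) ∣ Nat.card Q₀ := Subgroup.orderOf_dvd_natCard Q₀ hx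
    exact Nat.Coprime.coprime_dvd_left h1 hr.coprime
  refine mem_of_pow_mem_of_coprime hord (k := k) ?_
  have hm : (QuotientGroup.mk' C) ((c * y) ^ p ^ k) = 1 := by
    have h1 : QuotientGroup.mk' C c = 1 := by
      rw [QuotientGroup.mk'_apply, QuotientGroup.eq_one_iff]
      exact hc
    rw [map_pow, map_mul, h1, one_mul, ← map_pow, hk1, map_one]
  rw [QuotientGroup.mk'_apply, QuotientGroup.eq_one_iff] at hm
  exact hm

/-- The final contradiction in a reduced group. -/
lemma false_of_fix (hr : Reduced p G P Q₀)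
    (hC : centralizer
      (((P : Subgroup G) ⊓ centralizer ((P : Subgroup G) : Set G) : Subgroup G) : Set G) = P)
    (hfix : ∀ z ∈ (P : Subgroup G), (∀ s ∈ (P : Subgroup G), s * z = z * s) → z ^ p = 1 →
      ∀ x ∈ Q₀, x * z * x⁻¹ = z) : False := by
  have hle := centralizes_center_of_omega hr hfix
  rw [hC] at hle
  apply hr.ne_bot
  rw [eq_bot_iff]
  intro x hx
  obtain ⟨k, hk⟩ := P.isPGroup' ⟨x, hle hx⟩
  have h1 : x ^ p ^ k = 1 := congrArg Subtype.val hk
  rw [mem_bot]
  exact eq_one_of_mem_of_coprime hr.coprime hx h1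

/-- Consequences of the hypotheses in a reduced group. -/
lemma normalizer_eq (hr : Reduced p G P Q₀)
    (h₁ : HasNormalPComplement p (normalizer (jOf 0 (P : Subgroup G) : Set G))) :
    normalizer (jOf 0 (P : Subgroup G) : Set G) = P := by
  refine hr.eq_of_pc _ ?_ h₁
  exact le_normalizer.trans
    ((pFunctor_jOf (e := 0) (p := p) (Or.inl rfl)).normalizer_le _ P.isPGroup')

lemma centralizer_eq (hr : Reduced p G P Q₀)
    (h₂ : HasNormalPComplement p (centralizer
      (((P : Subgroup G) ⊓ centralizer ((P : Subgroup G) : Set G) : Subgroup G) : Set G))) :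
    centralizer
      (((P : Subgroup G) ⊓ centralizer ((P : Subgroup G) : Set G) : Subgroup G) : Set G) = P := by
  refine hr.eq_of_pc _ ?_ h₂
  intro s hs
  rw [mem_centralizer_iff]
  rintro z ⟨_, hz⟩
  exact (mem_centralizer_iff.1 hz s hs).symm

/-- The reduced case, `p` odd. -/
theorem false_of_reduced_odd (hp : p ≠ 2) (hr : Reduced p G P Q₀)
    (h₁ : HasNormalPComplement p (normalizer (jOf 0 (P : Subgroup G) : Set G)))
    (h₂ : HasNormalPComplement p (centralizer
      (((P : Subgroup G) ⊓ centralizer ((P : Subgroup G) : Set G) : Subgroup G) : Set G))) :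
    False := by
  have hJ := normalizer_eq hr h₁
  have hC := centralizer_eq hr h₂
  have hW := hr.normal_Z₀ hp (e := 0) (Or.inl rfl)
  have hJC : jOf 0 (P : Subgroup G) ≤ centralizer (Z₀ 0 (P : Subgroup G) : Set G) := by
    rw [jOf, sSup_le_iff]
    intro A hA a ha
    rw [mem_centralizer_iff]
    intro w hw
    exact hA.2.1.comm (Z₀_le hA hw) ha
  have hCW : (centralizer (Z₀ 0 (P : Subgroup G) : Set G)).Normal := normal_centralizer
  have hQ₀ := le_of_jOf_le' (Or.inl rfl) hr hJ.le _ hJC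
  refine false_of_fix hr hC ?_
  intro z hz hc hzp x hx
  have hzW : z ∈ Z₀ 0 (P : Subgroup G) := by
    rw [Z₀, mem_sInf]
    intro A hA
    exact hA.mem_of_commute hz (by simp) (fun a ha => hc a (hA.1 ha))
  have h1 := mem_centralizer_iff.1 (hQ₀ hx) z hzW
  rw [← h1]
  group

/-- The reduced case, `p = 2`. -/
theorem false_of_reduced_two {P : Sylow 2 G} [Fact (Nat.Prime 2)]
    (hS4 : ¬ Cfsg.Involves (Equiv.Perm (Fin 4)) G) (hr : Reduced 2 G P Q₀)
    (h₁ : HasNormalPComplement 2 (normalizer (jOf 0 (P : Subgroup G) : Set G)))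
    (h₂ : HasNormalPComplement 2 (centralizer
      (((P : Subgroup G) ⊓ centralizer ((P : Subgroup G) : Set G) : Subgroup G) : Set G))) :
    False := by
  have hJ := normalizer_eq hr h₁
  have hC := centralizer_eq hr h₂
  have hsep := isPSolvable_of_reduced hr
  haveI hVn : (omegaV 2 G).Normal := omegaV_normal
  set V := omegaV 2 G with hV
  have hVe : Cfsg.IsElementaryAbelian 2 V := omegaV_ea hsep hr.core
  have hpc : Cfsg.pCore 2 (G ⧸ Subgroup.centralizer (V : Set G)) = ⊥ := omegaV_pCore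
  -- `V ≤ P`
  have hVP : V ≤ (P : Subgroup G) := by
    have hle : V ≤ pCore 2 G := by
      refine le_pCore hVn ?_
      rw [isPGroup_iff_pow_pow_eq_one]
      rintro ⟨v, hv⟩
      exact ⟨1, by apply Subtype.ext; simpa using hVe.2 v hv⟩
    exact hle.trans (pCore_le_sylow P)
  -- maximal abelian subgroups centralize `V`
  have hA : ∀ A, IsMaxIn 0 (P : Subgroup G) A → A ≤ centralizer (V : Set G) := by
    intro A hA
    refine offender_le_centralizer hsep hVe hpc hS4 ?_ (P.isPGroup'.to_le hA.1) ?_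
    · have h0 : ⁅A, A⁆ = ⊥ := by
        rw [eq_bot_iff, commutator_le]
        intro a ha b hb
        rw [mem_bot, commutatorElement_eq_one_iff_mul_comm]
        exact hA.2.1.comm ha hb
      rw [h0]
      exact bot_le
    · set K := A ⊓ centralizer (V : Set G) with hK
      have hVab : IsAbExp 0 V := by
        rw [isAbExp_iff]
        exact ⟨fun a ha b hb => Cfsg.Agent.Lib.QuadAct.Basic.comm_of_isMulCommutative hVe.1 ha hb,
          fun a _ => by simp⟩
      have hKab : IsAbExp 0 K := hA.2.1.mono inf_le_left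
      have hVK : ∀ a ∈ V, ∀ b ∈ K, a * b = b * a := fun a ha b hb =>
        mem_centralizer_iff.1 hb.2 a ha
      have hB : IsAbExp 0 (V ⊔ K) := hVab.sup hKab hVK
      have hBP : V ⊔ K ≤ (P : Subgroup G) := sup_le hVP (inf_le_left.trans hA.1)
      have h1 := hA.2.2 _ hBP hB
      have hn : V ≤ normalizer (K : Set G) :=
        le_trans (fun v hv => mem_centralizer_iff.2 fun k hk => (hVK v hv k hk).symm)
          (Subgroup.centralizer_le_normalizer _)
      have h2 := Cfsg.Agent.Lib.QuadAct.Basic.card_sup_mul_card_inf_of_le_normalizer V K hn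
      have h3 : V ⊓ K ≤ V ⊓ centralizer (A : Set G) := by
        rintro x ⟨hx1, hx2⟩
        refine ⟨hx1, mem_centralizer_iff.2 fun a ha => hA.2.1.comm ha hx2.1⟩
      have h4 := Subgroup.card_le_of_le h3
      rw [← h2]
      exact Nat.mul_le_mul h1 h4
  have hJC : jOf 0 (P : Subgroup G) ≤ centralizer (V : Set G) := by
    rw [jOf, sSup_le_iff]
    exact hA
  have hCn : (centralizer (V : Set G)).Normal := normal_centralizer
  have hQ₀ := le_of_jOf_le' (Or.inl rfl) hr hJ.le _ hJC
  refine false_of_fix hr hC ?_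
  intro z hz hc hzp x hx
  have hzV : z ∈ V := by
    refine Subgroup.mem_iSup_of_mem P (Subgroup.subset_closure ⟨⟨hz, ?_⟩, hzp⟩)
    exact mem_centralizer_iff.2 fun s hs => hc s hs
  have h1 := mem_centralizer_iff.1 (hQ₀ hx) z hzV
  rw [← h1]
  group

/-- Thompson's theorem for `p` odd, `J(P)` generated by abelian subgroups of largest order. -/
theorem pc_of_thompson_abelian (hp : p ≠ 2) (P : Sylow p G)
    (h₁ : HasNormalPComplement p (normalizer (jOf 0 (P : Subgroup G) : Set G)))
    (h₂ : HasNormalPComplement p (centralizer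
      (((P : Subgroup G) ⊓ centralizer ((P : Subgroup G) : Set G) : Subgroup G) : Set G))) :
    HasNormalPComplement p G := by
  refine reduction (ThompsonHyp.and
    (thompsonHyp (pFunctor_jOf (e := 0) (Or.inl rfl)) lFunctor_normalizer)
    (thompsonHyp pFunctor_center lFunctor_centralizer)) ?_ _ G P rfl ⟨h₁, h₂⟩
  intro G _ _ P Q₀ ⟨hyp₁, hyp₂⟩ hr
  exact false_of_reduced_odd hp hr hyp₁ hyp₂

/-- Thompson's theorem for `S₄`-free groups, `J(P)` generated by abelian subgroups of largest
order. -/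
theorem pc_of_thompson_sfour_free [Fact (Nat.Prime 2)] (hS4 : ¬ Cfsg.Involves (Equiv.Perm (Fin 4)) G)
    (P : Sylow 2 G)
    (h₁ : HasNormalPComplement 2 (normalizer (jOf 0 (P : Subgroup G) : Set G)))
    (h₂ : HasNormalPComplement 2 (centralizer
      (((P : Subgroup G) ⊓ centralizer ((P : Subgroup G) : Set G) : Subgroup G) : Set G))) :
    HasNormalPComplement 2 G := by
  refine reduction_amb (ThompsonHyp.and
    (thompsonHyp (pFunctor_jOf (e := 0) (Or.inl rfl)) lFunctor_normalizer)
    (thompsonHyp pFunctor_center lFunctor_centralizer))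
    (fun (X : Type u) [Group X] => ¬ Cfsg.Involves (Equiv.Perm (Fin 4)) X) ?_ ?_ ?_
    _ G P rfl hS4 ⟨h₁, h₂⟩
  · intro X _ H hX h
    exact hX (Cfsg.Agent.Lib.PReduced.Sections.involves_of_injective H.subtype H.subtype_injective h)
  · intro X _ N _ hX h
    exact hX (Cfsg.Agent.Lib.PReduced.Sections.involves_comap (QuotientGroup.mk' N)
      (QuotientGroup.mk'_surjective N) h)
  · intro G _ _ P Q₀ hA ⟨hyp₁, hyp₂⟩ hr
    exact false_of_reduced_two hA hr hyp₁ hyp₂

end Cfsg.Agent.Lib.SFourFree.Complement
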