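import Cfsg.Agent.Lib.SFourFree.Offender
import Cfsg.Agent.Lib.QuadAct.Sections

/-!
# Failure of factorization for quadratic modules in `S₃`-free groups

Let a finite group `Γ` act faithfully on a finite `𝔽₂`-module `M`.  Suppose every `2`-subgroup of
`Γ` acts quadratically on `M`, and `Γ` does not involve `S₃`.  Then every `2`-subgroup `X` maximizing
`|X| |C_M(X)|` lies in `O₂(Γ)`.
-/

set_option autoImplicit false
set_option linter.unusedSectionVars false
set_option linter.unusedSimpArgs false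
set_option linter.style.haveILetI false

namespace Cfsg.Agent.Lib.SFourFree.QuadFF

open Cfsg Cfsg.Agent.Lib.QuadAct.FFBasic Cfsg.Agent.Lib.SFourFree.Offender
  Cfsg.Agent.Lib.Core.Basic

universe u v

section basic

variable {Γ : Type u} [Group Γ] {M : Type v} [AddCommGroup M] [Module (ZMod 2) M]
  {ρ : Γ →* Module.End (ZMod 2) M}

theorem rho_inv_apply (g : Γ) (m : M) : ρ g⁻¹ (ρ g m) = m := by
  rw [← Module.End.mul_apply, ← map_mul, inv_mul_cancel, map_one, Module.End.one_apply]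

theorem rho_apply_inv (g : Γ) (m : M) : ρ g (ρ g⁻¹ m) = m := by
  rw [← Module.End.mul_apply, ← map_mul, mul_inv_cancel, map_one, Module.End.one_apply]

theorem rho_mul_apply (g h : Γ) (m : M) : ρ (g * h) m = ρ g (ρ h m) := by
  rw [map_mul, Module.End.mul_apply]

theorem rho_one_apply (m : M) : ρ 1 m = m := by
  rw [map_one, Module.End.one_apply]

/-- Quadratic action of all `2`-subgroups. -/
def Quad (ρ : Γ →* Module.End (ZMod 2) M) : Prop :=
  ∀ P : Subgroup Γ, IsPGroup 2 P → ∀ a ∈ P, ∀ b ∈ P, ∀ m : M, ρ a (ρ b m - m) = ρ b m - m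

/-- The commutator submodule `[W, H]`. -/
def brk (ρ : Γ →* Module.End (ZMod 2) M) (H : Subgroup Γ) (W : Submodule (ZMod 2) M) :
    Submodule (ZMod 2) M :=
  Submodule.span (ZMod 2) {m | ∃ h ∈ H, ∃ y ∈ W, m = ρ h y - y}

theorem sub_mem_brk {H : Subgroup Γ} {W : Submodule (ZMod 2) M} {h : Γ} {y : M} (hh : h ∈ H)
    (hy : y ∈ W) : ρ h y - y ∈ brk ρ H W :=
  Submodule.subset_span ⟨h, hh, y, hy, rfl⟩

theorem brk_le {H : Subgroup Γ} {W Y : Submodule (ZMod 2) M}
    (h : ∀ g ∈ H, ∀ y ∈ W, ρ g y - y ∈ Y) : brk ρ H W ≤ Y := by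
  rw [brk, Submodule.span_le]
  rintro _ ⟨g, hg, y, hy, rfl⟩
  exact h g hg y hy

theorem brk_mono {H K : Subgroup Γ} {W V : Submodule (ZMod 2) M} (hHK : H ≤ K) (hWV : W ≤ V) :
    brk ρ H W ≤ brk ρ K V :=
  brk_le fun _ hg _ hy => sub_mem_brk (hHK hg) (hWV hy)

/-- Invariant submodules. -/
def Inv (ρ : Γ →* Module.End (ZMod 2) M) (W : Submodule (ZMod 2) M) : Prop :=
  ∀ g : Γ, ∀ y ∈ W, ρ g y ∈ W

theorem inv_top : Inv ρ (⊤ : Submodule (ZMod 2) M) := fun _ _ _ => trivial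

theorem brk_self_le {H : Subgroup Γ} {W : Submodule (ZMod 2) M} (hW : Inv ρ W) : brk ρ H W ≤ W :=
  brk_le fun g _ y hy => W.sub_mem (hW g y hy) hy

theorem inv_brk_top {W : Submodule (ZMod 2) M} (hW : Inv ρ W) : Inv ρ (brk ρ ⊤ W) := by
  intro g y hy
  have h : (brk ρ ⊤ W).map (ρ g) ≤ brk ρ ⊤ W := by
    rw [brk, Submodule.map_span, Submodule.span_le]
    rintro _ ⟨_, ⟨h, -, y, hy, rfl⟩, rfl⟩
    have e : ρ g (ρ h y - y) = ρ (g * h * g⁻¹) (ρ g y) - ρ g y := by
      rw [map_sub, rho_mul_apply, rho_mul_apply, rho_inv_apply]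
    rw [e]
    exact sub_mem_brk (Subgroup.mem_top _) (hW g y hy)
  exact h ⟨y, hy, rfl⟩

/-- `[W, ⟨A, B⟩] = [W, A] + [W, B]`. -/
theorem brk_top_le {A B : Subgroup Γ} (hgen : A ⊔ B = ⊤) {W : Submodule (ZMod 2) M} (hW : Inv ρ W) :
    brk ρ ⊤ W ≤ brk ρ A W ⊔ brk ρ B W := by
  set Y := brk ρ A W ⊔ brk ρ B W with hY
  let K : Subgroup Γ :=
    { carrier := {g | ∀ y ∈ W, ρ g y - y ∈ Y}
      one_mem' := fun y _ => by
        rw [rho_one_apply, sub_self]
        exact Y.zero_mem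
      mul_mem' := by
        intro g h hg hh y hy
        have e : ρ (g * h) y - y = (ρ g (ρ h y) - ρ h y) + (ρ h y - y) := by
          rw [rho_mul_apply]
          abel
        rw [e]
        exact Y.add_mem (hg _ (hW h y hy)) (hh y hy)
      inv_mem' := by
        intro g hg y hy
        have h1 := hg _ (hW g⁻¹ y hy)
        rw [rho_apply_inv] at h1
        have e : ρ g⁻¹ y - y = -(y - ρ g⁻¹ y) := by abel
        rw [e]
        exact Y.neg_mem h1 }
  have hA : A ≤ K := fun a ha y hy => Submodule.mem_sup_left (sub_mem_brk ha hy)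
  have hB : B ≤ K := fun b hb y hy => Submodule.mem_sup_right (sub_mem_brk hb hy)
  have hK : (⊤ : Subgroup Γ) ≤ K := by
    rw [← hgen]
    exact sup_le hA hB
  exact brk_le fun g _ y hy => hK (Subgroup.mem_top g) y hy

theorem Quad.sub_mem_fix (hQ : Quad ρ) {P : Subgroup Γ} (hP : IsPGroup 2 P) {b : Γ} (hb : b ∈ P)
    (m : M) : ρ b m - m ∈ fix ρ P :=
  fun a ha => hQ P hP a ha b hb m

theorem Quad.brk_le_fix (hQ : Quad ρ) {P : Subgroup Γ} (hP : IsPGroup 2 P)
    (W : Submodule (ZMod 2) M) : brk ρ P W ≤ fix ρ P :=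
  brk_le fun _ hg y _ => hQ.sub_mem_fix hP hg y

theorem Quad.apply_apply (hQ : Quad ρ) {P : Subgroup Γ} (hP : IsPGroup 2 P) {a b : Γ} (ha : a ∈ P)
    (hb : b ∈ P) (m : M) : ρ a (ρ b m) = ρ a m + ρ b m - m := by
  have h := hQ P hP a ha b hb m
  rw [map_sub, sub_eq_iff_eq_add] at h
  rw [h]
  abel

theorem Quad.mul_comm (hQ : Quad ρ) (hρ : Function.Injective ρ) {P : Subgroup Γ}
    (hP : IsPGroup 2 P) {a b : Γ} (ha : a ∈ P) (hb : b ∈ P) : a * b = b * a := by
  apply hρ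
  ext m
  rw [rho_mul_apply, rho_mul_apply, hQ.apply_apply hP ha hb, hQ.apply_apply hP hb ha]
  abel

theorem Quad.sq_eq_one (hQ : Quad ρ) (hρ : Function.Injective ρ) {P : Subgroup Γ}
    (hP : IsPGroup 2 P) {a : Γ} (ha : a ∈ P) : a ^ 2 = 1 := by
  apply hρ
  ext m
  rw [pow_two, rho_mul_apply, hQ.apply_apply hP ha ha, map_one, Module.End.one_apply,
    ZModModule.add_self, zero_sub, ZModModule.neg_eq_self]

theorem Quad.comp_subtype (hQ : Quad ρ) (H : Subgroup Γ) : Quad (ρ.comp H.subtype) := by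
  intro P hP a ha b hb m
  have hP' : IsPGroup 2 (P.map H.subtype) :=
    hP.map H.subtype
  exact hQ _ hP' _ (Subgroup.mem_map_of_mem _ ha) _ (Subgroup.mem_map_of_mem _ hb) m

/-- `(x - 1)² = x² - 1`. -/
theorem sub_one_sq (x : Module.End (ZMod 2) M) : (x - 1) ^ 2 = x ^ 2 - 1 := by
  ext m
  simp only [pow_two, Module.End.mul_apply, LinearMap.sub_apply, Module.End.one_apply, map_sub]
  have h : x m + x m = 0 := ZModModule.add_self _
  calc x (x m) - x m - (x m - m) = x (x m) - (x m + x m) + m := by abel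
    _ = x (x m) + m := by rw [h, sub_zero]
    _ = x (x m) - m := by rw [ZModModule.sub_eq_add]

theorem sub_one_pow_two_pow (x : Module.End (ZMod 2) M) (a : ℕ) :
    (x - 1) ^ 2 ^ a = x ^ 2 ^ a - 1 := by
  induction a with
  | zero => simp
  | succ a ih =>
    rw [pow_succ, pow_mul, ih, sub_one_sq, pow_mul]

end basic

section reps

variable {Γ : Type u} [Group Γ] {M : Type v} [AddCommGroup M] [Module (ZMod 2) M]
  {ρ : Γ →* Module.End (ZMod 2) M}

/-- Restriction to an invariant submodule. -/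
def resRep (ρ : Γ →* Module.End (ZMod 2) M) (W : Submodule (ZMod 2) M) (hW : Inv ρ W) :
    Γ →* Module.End (ZMod 2) W where
  toFun g := (ρ g).restrict (hW g)
  map_one' := by
    ext y
    show ρ 1 (y : M) = y
    exact rho_one_apply _
  map_mul' := fun g h => by
    ext y
    show ρ (g * h) (y : M) = ρ g (ρ h y)
    exact rho_mul_apply _ _ _

theorem resRep_coe {W : Submodule (ZMod 2) M} (hW : Inv ρ W) (g : Γ) (y : W) :
    ((resRep ρ W hW g y : W) : M) = ρ g y := rfl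

/-- The action on a quotient by an invariant submodule. -/
def quotRep (ρ : Γ →* Module.End (ZMod 2) M) (Z : Submodule (ZMod 2) M) (hZ : Inv ρ Z) :
    Γ →* Module.End (ZMod 2) (M ⧸ Z) where
  toFun g := Z.mapQ Z (ρ g) (fun y hy => hZ g y hy)
  map_one' := by
    ext y
    show Z.mkQ (ρ 1 y) = Z.mkQ y
    rw [rho_one_apply]
  map_mul' := fun g h => by
    ext y
    show Z.mkQ (ρ (g * h) y) = Z.mkQ (ρ g (ρ h y))
    rw [rho_mul_apply]

theorem quotRep_mk {Z : Submodule (ZMod 2) M} (hZ : Inv ρ Z) (g : Γ) (m : M) :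
    quotRep ρ Z hZ g (Z.mkQ m) = Z.mkQ (ρ g m) := rfl

theorem Quad.res (hQ : Quad ρ) {W : Submodule (ZMod 2) M} (hW : Inv ρ W) :
    Quad (resRep ρ W hW) := by
  intro P hP a ha b hb y
  apply Subtype.ext
  exact hQ P hP a ha b hb y

theorem Quad.quot (hQ : Quad ρ) {Z : Submodule (ZMod 2) M} (hZ : Inv ρ Z) :
    Quad (quotRep ρ Z hZ) := by
  intro P hP a ha b hb y
  obtain ⟨m, rfl⟩ := Z.mkQ_surjective y
  rw [quotRep_mk, ← map_sub, quotRep_mk, hQ P hP a ha b hb m]

/-- The faithful quotient. -/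
noncomputable def kerRep {N : Type*} [AddCommGroup N] [Module (ZMod 2) N]
    (φ : Γ →* Module.End (ZMod 2) N) : Γ ⧸ φ.ker →* Module.End (ZMod 2) N :=
  QuotientGroup.lift φ.ker φ (fun _ h => h)

theorem kerRep_mk {N : Type*} [AddCommGroup N] [Module (ZMod 2) N]
    (φ : Γ →* Module.End (ZMod 2) N) (g : Γ) : kerRep φ (QuotientGroup.mk' φ.ker g) = φ g :=
  rfl

theorem kerRep_injective {N : Type*} [AddCommGroup N] [Module (ZMod 2) N]
    (φ : Γ →* Module.End (ZMod 2) N) : Function.Injective (kerRep φ) := by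
  intro a b h
  obtain ⟨a, rfl⟩ := QuotientGroup.mk'_surjective φ.ker a
  obtain ⟨b, rfl⟩ := QuotientGroup.mk'_surjective φ.ker b
  rw [kerRep_mk, kerRep_mk] at h
  rw [QuotientGroup.mk'_eq_mk']
  refine ⟨a⁻¹ * b, ?_, by group⟩
  rw [MonoidHom.mem_ker, map_mul, ← h, ← map_mul, inv_mul_cancel, map_one]

/-- Quadratic action descends along surjections. -/
theorem Quad.of_surj [Finite Γ] {Γ' : Type*} [Group Γ'] [Finite Γ'] {M' : Type*} [AddCommGroup M']
    [Module (ZMod 2) M'] {ρ₁ : Γ →* Module.End (ZMod 2) M'} {ρ' : Γ' →* Module.End (ZMod 2) M'}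
    (π : Γ →* Γ') (hπ : Function.Surjective π) (h : ∀ g, ρ' (π g) = ρ₁ g) (hQ : Quad ρ₁) :
    Quad ρ' := by
  intro P hP a ha b hb m
  obtain ⟨Q', hQ'⟩ := hP.exists_le_sylow
  obtain ⟨Q, rfl⟩ := Sylow.mapSurjective_surjective hπ 2 Q'
  rw [Sylow.coe_mapSurjective] at hQ'
  obtain ⟨a₁, ha₁, rfl⟩ := hQ' ha
  obtain ⟨b₁, hb₁, rfl⟩ := hQ' hb
  rw [h, h]
  exact hQ Q Q.isPGroup' a₁ ha₁ b₁ hb₁ m

end reps

section counting

variable {Γ : Type u} [Group Γ] {M : Type v} [AddCommGroup M] [Module (ZMod 2) M]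
  {ρ : Γ →* Module.End (ZMod 2) M}

theorem card_sup_mul_card_inf [Finite M] (A B : Submodule (ZMod 2) M) :
    Nat.card ↥(A ⊔ B) * Nat.card ↥(A ⊓ B) = Nat.card A * Nat.card B := by
  haveI : Module.Finite (ZMod 2) M := Module.Finite.of_finite
  have e : ∀ S : Submodule (ZMod 2) M, Nat.card S = 2 ^ Module.finrank (ZMod 2) S := fun S => by
    rw [Module.natCard_eq_pow_finrank (K := ZMod 2), Nat.card_zmod]
  rw [e, e, e, e, ← pow_add, ← pow_add, Submodule.finrank_sup_add_finrank_inf_eq]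

theorem jj_bot [Finite M] : jj ρ ⊥ = Nat.card M := by
  unfold jj
  rw [fix_bot, Subgroup.card_bot, one_mul]
  exact Nat.card_congr Submodule.topEquiv.toEquiv

/-- A `2`-subgroup maximizing `|X| |C_M(X)|`. -/
def Maxi (ρ : Γ →* Module.End (ZMod 2) M) (X : Subgroup Γ) : Prop :=
  IsPGroup 2 X ∧ ∀ Y : Subgroup Γ, IsPGroup 2 Y → jj ρ Y ≤ jj ρ X

/-- The conclusion of the theorem. -/
def MF (ρ : Γ →* Module.End (ZMod 2) M) : Prop :=
  ∀ X : Subgroup Γ, Maxi ρ X → X ≤ pCore 2 Γ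

/-- The hypotheses of the theorem. -/
def Good (ρ : Γ →* Module.End (ZMod 2) M) : Prop :=
  Function.Injective ρ ∧ Quad ρ ∧ ¬ Cfsg.Involves (Equiv.Perm (Fin 3)) Γ

theorem Maxi.conj [Finite Γ] [Finite M] {X : Subgroup Γ} (hX : Maxi ρ X) (g : Γ) :
    Maxi ρ (X.map (MulAut.conj g).toMonoidHom) := by
  refine ⟨hX.1.map _, fun Y hY => ?_⟩
  rw [jj_conj]
  exact hX.2 Y hY

theorem MF.offender [Finite Γ] [Finite M] (h : MF ρ) (hO : pCore 2 Γ = ⊥) {X : Subgroup Γ}
    (hX : IsPGroup 2 X) (hoff : Nat.card M ≤ jj ρ X) : X = ⊥ := by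
  obtain ⟨Y, hY, hYmax⟩ := Set.exists_max_image {Y : Subgroup Γ | IsPGroup 2 Y} (jj ρ)
    (Set.toFinite _) ⟨⊥, IsPGroup.of_bot⟩
  have h1 : Y = ⊥ := by
    have := h Y ⟨hY, fun Z hZ => hYmax Z hZ⟩
    rwa [hO, le_bot_iff] at this
  have h2 : jj ρ Y = Nat.card M := by rw [h1, jj_bot]
  have h3 : Maxi ρ X := ⟨hX, fun Z hZ => (hYmax Z hZ).trans (h2.le.trans hoff)⟩
  have := h X h3
  rwa [hO, le_bot_iff] at this

/-- `O₂(Γ) = 1` as soon as `M = [M, X] + [M, Y]`. -/
theorem pCore_eq_bot_of_brk [Finite Γ] (hρ : Function.Injective ρ) (hQ : Quad ρ) {X Y : Subgroup Γ}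
    (hX : IsPGroup 2 X) (hY : IsPGroup 2 Y)
    (hb : (⊤ : Submodule (ZMod 2) M) ≤ brk ρ X ⊤ ⊔ brk ρ Y ⊤) : pCore 2 Γ = ⊥ := by
  have key : ∀ {A : Subgroup Γ}, IsPGroup 2 A → brk ρ A ⊤ ≤ fix ρ (pCore 2 Γ) := by
    intro A hA
    have hP : IsPGroup 2 ↥(A ⊔ pCore 2 Γ) :=
      hA.to_sup_of_normal_right pCore_isPGroup
    refine brk_le fun g hg y _ r hr => ?_
    exact hQ _ hP r (Subgroup.mem_sup_right hr) g (Subgroup.mem_sup_left hg) y
  rw [eq_bot_iff]
  intro r hr
  rw [Subgroup.mem_bot]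
  apply hρ
  ext m
  rw [map_one, Module.End.one_apply]
  exact (sup_le (key hX) (key hY)) (hb Submodule.mem_top) r hr

/-- A group acting unipotently is a `2`-group. -/
theorem isPGroup_of_brk_ne [Finite M] (hρ : Function.Injective ρ)
    (hres : ∀ W : Submodule (ZMod 2) M, Inv ρ W → W ≠ ⊤ → brk ρ ⊤ W = W → W = ⊥)
    (hne : brk ρ ⊤ (⊤ : Submodule (ZMod 2) M) ≠ ⊤) : IsPGroup 2 Γ := by
  haveI : Fact (Nat.Prime 2) := ⟨Nat.prime_two⟩
  have key : ∀ (k : ℕ) (W : Submodule (ZMod 2) M), Nat.card W ≤ k → Inv ρ W →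
      W ≤ brk ρ ⊤ (⊤ : Submodule (ZMod 2) M) →
      ∀ g : Γ, ∃ e : ℕ, ∀ y ∈ W, ((ρ g - 1) ^ e) y = 0 := by
    intro k
    induction k with
    | zero =>
      intro W hW
      have : 0 < Nat.card W := Nat.card_pos
      omega
    | succ k ih =>
      intro W hW hinv hle g
      by_cases hb : brk ρ ⊤ W = W
      · have hWne : W ≠ ⊤ := by
          rintro rfl
          exact hne (top_le_iff.mp hle)
        have := hres W hinv hWne hb
        refine ⟨0, fun y hy => ?_⟩
        rw [this, Submodule.mem_bot] at hy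
        rw [hy, map_zero]
      · have hlt : brk ρ ⊤ W < W := lt_of_le_of_ne (brk_self_le hinv) hb
        have h1 := card_mul_le_of_lt hlt
        have h2 : 0 < Nat.card ↥(brk ρ ⊤ W) := Nat.card_pos
        obtain ⟨e, he⟩ := ih (brk ρ ⊤ W) (by omega) (inv_brk_top hinv)
          ((brk_mono le_rfl le_top)) g
        refine ⟨e + 1, fun y hy => ?_⟩
        rw [pow_succ, Module.End.mul_apply]
        exact he _ (sub_mem_brk (Subgroup.mem_top g) hy)
  intro g
  obtain ⟨e, he⟩ := key _ _ le_rfl (inv_brk_top inv_top) le_rfl g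
  have h1 : (ρ g - 1) ^ (e + 1) = 0 := by
    ext m
    rw [pow_succ, Module.End.mul_apply]
    exact he _ (sub_mem_brk (Subgroup.mem_top g) Submodule.mem_top)
  have h2 : (ρ g - 1) ^ 2 ^ (e + 1) = 0 :=
    pow_eq_zero_of_le (Nat.lt_two_pow_self).le h1
  rw [sub_one_pow_two_pow, sub_eq_zero, ← map_pow] at h2
  refine ⟨e + 1, hρ ?_⟩
  simpa using h2

/-- The image of a maximizer offends on an invariant submodule. -/
theorem card_le_jj_res [Finite Γ] [Finite M] {A : Subgroup Γ} (hA : Maxi ρ A)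
    {W : Submodule (ZMod 2) M} (hW : Inv ρ W) :
    Nat.card W ≤ jj (kerRep (resRep ρ W hW))
      (A.map (QuotientGroup.mk' (resRep ρ W hW).ker)) := by
  set φ := resRep ρ W hW with hφ
  set π := QuotientGroup.mk' φ.ker with hπ
  set C := fix ρ A with hC
  have hfix : (fix (kerRep φ) (A.map π)).map W.subtype = W ⊓ C := by
    ext m
    constructor
    · rintro ⟨y, hy, rfl⟩
      refine ⟨y.2, fun a ha => ?_⟩
      have := hy _ (Subgroup.mem_map_of_mem π ha)
      rw [kerRep_mk] at this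
      exact congrArg Subtype.val this
    · rintro ⟨hm, hmC⟩
      refine ⟨⟨m, hm⟩, ?_, rfl⟩
      rintro _ ⟨a, ha, rfl⟩
      rw [kerRep_mk]
      apply Subtype.ext
      exact hmC a ha
  have hcardfix : Nat.card (fix (kerRep φ) (A.map π)) = Nat.card ↥(W ⊓ C) := by
    rw [← hfix]
    exact Nat.card_congr (Submodule.equivMapOfInjective _ W.subtype_injective _).toEquiv
  set A₀ := A ⊓ π.ker with hA₀
  have h1 : Nat.card A = Nat.card (A.map π) * Nat.card A₀ :=
    Cfsg.Agent.Lib.QuadAct.FFQuot.card_eq_map_mul_inf π A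
  have h2 : jj ρ A₀ ≤ jj ρ A := hA.2 A₀ (hA.1.to_le inf_le_left)
  have h3 : W ⊔ C ≤ fix ρ A₀ := by
    refine sup_le ?_ ?_
    · intro y hy a ha
      have ha2 : a ∈ φ.ker := by
        have := ha.2
        rwa [hπ, QuotientGroup.ker_mk'] at this
      have h4 : φ a = 1 := ha2
      have h5 : φ a ⟨y, hy⟩ = ⟨y, hy⟩ := by rw [h4, Module.End.one_apply]
      exact congrArg Subtype.val h5
    · intro y hy a ha
      exact hy a ha.1
  have h4 : Nat.card ↥(W ⊔ C) ≤ Nat.card (fix ρ A₀) := by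
    haveI : Finite ↥(fix ρ A₀) := inferInstance
    exact Nat.card_le_card_of_injective (Submodule.inclusion h3) (Submodule.inclusion_injective h3)
  have h5 := card_sup_mul_card_inf W C
  have hpos₀ : 0 < Nat.card A₀ := Nat.card_pos
  have hposC : 0 < Nat.card C := Nat.card_pos
  have h6 : Nat.card ↥(W ⊔ C) ≤ Nat.card (A.map π) * Nat.card C := by
    refine Nat.le_of_mul_le_mul_left ?_ hpos₀
    calc Nat.card A₀ * Nat.card ↥(W ⊔ C) ≤ Nat.card A₀ * Nat.card (fix ρ A₀) :=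
          Nat.mul_le_mul_left _ h4
      _ = jj ρ A₀ := rfl
      _ ≤ jj ρ A := h2
      _ = Nat.card A * Nat.card C := rfl
      _ = Nat.card A₀ * (Nat.card (A.map π) * Nat.card C) := by rw [h1]; ring
  unfold jj
  rw [hcardfix]
  refine Nat.le_of_mul_le_mul_right ?_ hposC
  calc Nat.card W * Nat.card C = Nat.card ↥(W ⊔ C) * Nat.card ↥(W ⊓ C) := h5.symm
    _ ≤ (Nat.card (A.map π) * Nat.card C) * Nat.card ↥(W ⊓ C) := Nat.mul_le_mul_right _ h6
    _ = Nat.card (A.map π) * Nat.card ↥(W ⊓ C) * Nat.card C := by ring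

end counting

section plane

variable {Γ : Type u} [Group Γ] [Finite Γ] {M : Type v} [AddCommGroup M] [Module (ZMod 2) M]
  {ρ : Γ →* Module.End (ZMod 2) M}

/-- Two elements acting on a plane as `GL₂(2)` give a section `S₃`. -/
theorem involves_of_plane {u w : M} (hu : u ≠ 0) (hw : w ≠ 0) (huw : u ≠ w) {s t : Γ}
    (hsu : ρ s u = u + w) (hsw : ρ s w = w) (htw : ρ t w = w + u) (htu : ρ t u = u) :
    Cfsg.Involves (Equiv.Perm (Fin 3)) Γ := by
  classical
  let e : Fin 3 → M := ![u, w, u + w]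
  have huw' : u + w ≠ 0 := by
    intro h
    apply huw
    have : u = -w := eq_neg_of_add_eq_zero_left h
    rw [this, ZModModule.neg_eq_self]
  have he : Function.Injective e := by
    intro i j hij
    fin_cases i <;> fin_cases j <;> simp only [e] at hij ⊢ <;> first
      | rfl
      | (exfalso; simp at hij; first
          | exact huw hij
          | exact huw hij.symm
          | exact hw hij
          | exact hw hij.symm
          | exact hu hij)
  have hinv : ∀ g : Γ, (∀ i, ρ g (e i) ∈ Set.range e) → ∀ i, ρ g⁻¹ (e i) ∈ Set.range e := by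
    intro g hg i
    choose f hf using hg
    have hfi : Function.Injective f := by
      intro a b hab
      apply he
      have h1 : ρ g (e a) = ρ g (e b) := by rw [← hf, ← hf, hab]
      have h2 := congrArg (ρ g⁻¹) h1
      rwa [rho_inv_apply, rho_inv_apply] at h2
    obtain ⟨j, hj⟩ := (Finite.injective_iff_surjective.mp hfi) i
    refine ⟨j, ?_⟩
    rw [← hj, hf, rho_inv_apply]
  let K : Subgroup Γ :=
    { carrier := {g | ∀ i, ρ g (e i) ∈ Set.range e}
      one_mem' := fun i => ⟨i, by rw [rho_one_apply]⟩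
      mul_mem' := by
        intro g h hg hh i
        obtain ⟨j, hj⟩ := hh i
        rw [rho_mul_apply, ← hj]
        exact hg j
      inv_mem' := fun {g} hg => hinv g hg }
  have hK : ∀ g : K, ∀ i, ∃ j, e j = ρ (g : Γ) (e i) := fun g i => g.2 i
  choose f hf using hK
  have hfi : ∀ g : K, Function.Injective (f g) := by
    intro g a b hab
    apply he
    have h1 : ρ (g : Γ) (e a) = ρ (g : Γ) (e b) := by rw [← hf, ← hf, hab]
    have h2 := congrArg (ρ (g : Γ)⁻¹) h1
    rwa [rho_inv_apply, rho_inv_apply] at h2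
  have hfb : ∀ g : K, Function.Bijective (f g) := fun g => Finite.injective_iff_bijective.mp (hfi g)
  let φ : K →* Equiv.Perm (Fin 3) := MonoidHom.mk' (fun g => Equiv.ofBijective (f g) (hfb g)) (by
    intro g h
    ext i
    show ((f (g * h) i : Fin 3) : ℕ) = (f g (f h i) : Fin 3)
    congr 1
    apply he
    rw [hf, hf g, hf h]
    exact rho_mul_apply _ _ _)
  have hφ : ∀ (g : K) (i : Fin 3), e (φ g i) = ρ (g : Γ) (e i) := fun g i => hf g i
  have h0 : e 0 = u := rfl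
  have h1 : e 1 = w := rfl
  have h2 : e 2 = u + w := rfl
  have hs2 : ρ s (u + w) = u := by
    rw [map_add, hsu, hsw, add_assoc, ZModModule.add_self, add_zero]
  have ht2 : ρ t (u + w) = w := by
    rw [map_add, htu, htw, add_comm w u, ← add_assoc, ZModModule.add_self, zero_add]
  have hsK : s ∈ K := by
    intro i
    fin_cases i
    · exact ⟨2, by show e 2 = ρ s u; rw [hsu, h2]⟩
    · exact ⟨1, by show e 1 = ρ s w; rw [hsw, h1]⟩
    · exact ⟨0, by show e 0 = ρ s (u + w); rw [hs2, h0]⟩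
  have htK : t ∈ K := by
    intro i
    fin_cases i
    · exact ⟨0, by show e 0 = ρ t u; rw [htu, h0]⟩
    · exact ⟨2, by show e 2 = ρ t w; rw [htw, h2, add_comm]⟩
    · exact ⟨1, by show e 1 = ρ t (u + w); rw [ht2, h1]⟩
  have hφs : φ ⟨s, hsK⟩ = Equiv.swap 0 2 := by
    ext i
    congr 1
    apply he
    rw [hφ]
    fin_cases i
    · show ρ s u = e (Equiv.swap 0 2 0)
      rw [Equiv.swap_apply_left, hsu, h2]
    · show ρ s w = e (Equiv.swap 0 2 1)
      rw [Equiv.swap_apply_of_ne_of_ne (by decide) (by decide), hsw, h1]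
    · show ρ s (u + w) = e (Equiv.swap 0 2 2)
      rw [Equiv.swap_apply_right, hs2, h0]
  have hφt : φ ⟨t, htK⟩ = Equiv.swap 1 2 := by
    ext i
    congr 1
    apply he
    rw [hφ]
    fin_cases i
    · show ρ t u = e (Equiv.swap 1 2 0)
      rw [Equiv.swap_apply_of_ne_of_ne (by decide) (by decide), htu, h0]
    · show ρ t w = e (Equiv.swap 1 2 1)
      rw [Equiv.swap_apply_left, htw, h2, add_comm]
    · show ρ t (u + w) = e (Equiv.swap 1 2 2)
      rw [Equiv.swap_apply_right, ht2, h1]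
  have hall : ∀ σ : Equiv.Perm (Fin 3), σ ∈ ({1, Equiv.swap 0 2, Equiv.swap 1 2,
      Equiv.swap 0 2 * Equiv.swap 1 2, Equiv.swap 1 2 * Equiv.swap 0 2,
      Equiv.swap 0 2 * Equiv.swap 1 2 * Equiv.swap 0 2} : Finset (Equiv.Perm (Fin 3))) := by
    decide
  refine Cfsg.Agent.Lib.PReduced.Sections.involves_of_hom K φ fun σ => ?_
  have hr : ∀ σ, σ ∈ φ.range ↔ ∃ x, φ x = σ := fun σ => Iff.rfl
  have ha : Equiv.swap (0 : Fin 3) 2 ∈ φ.range := ⟨_, hφs⟩
  have hb : Equiv.swap (1 : Fin 3) 2 ∈ φ.range := ⟨_, hφt⟩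
  have h3 := hall σ
  simp only [Finset.mem_insert, Finset.mem_singleton] at h3
  have : σ ∈ φ.range := by
    rcases h3 with rfl | rfl | rfl | rfl | rfl | rfl
    · exact one_mem _
    · exact ha
    · exact hb
    · exact mul_mem ha hb
    · exact mul_mem hb ha
    · exact mul_mem (mul_mem ha hb) ha
  exact this

end plane

section main

/-- The inductive hypothesis. -/
def Hyp (n : ℕ) : Prop :=
  ∀ (Γ : Type u) [Group Γ] [Finite Γ] (M : Type v) [AddCommGroup M] [Module (ZMod 2) M] [Finite M]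
    (ρ : Γ →* Module.End (ZMod 2) M), Nat.card Γ + Nat.card M < n → Good ρ → MF ρ

variable {n : ℕ} {Γ : Type u} [Group Γ] [Finite Γ] {M : Type v} [AddCommGroup M]
  [Module (ZMod 2) M] [Finite M] {ρ : Γ →* Module.End (ZMod 2) M}

/-- Two maximizers not generating lie in a `2`-group. -/
theorem sup_isPGroup (IH : Hyp.{u, v} n) (hcard : Nat.card Γ + Nat.card M ≤ n) (hg : Good ρ)
    {A B : Subgroup Γ} (hA : Maxi ρ A) (hB : Maxi ρ B) (hne : A ⊔ B ≠ ⊤) :
    IsPGroup 2 ↥(A ⊔ B) := by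
  set H := A ⊔ B with hH
  have hlt : Nat.card H < Nat.card Γ :=
    lt_of_le_of_ne H.card_le_card_group fun h => hne (Subgroup.eq_top_of_card_eq H h)
  have hg' : Good (ρ.comp H.subtype) :=
    ⟨hg.1.comp H.subtype_injective, hg.2.1.comp_subtype H, fun h =>
      hg.2.2 (Cfsg.Agent.Lib.PReduced.Sections.involves_of_injective H.subtype
        H.subtype_injective h)⟩
  have hMF := IH H M (ρ.comp H.subtype) (by omega) hg'
  have key : ∀ {C : Subgroup Γ}, Maxi ρ C → C ≤ H → C ≤ (pCore 2 H).map H.subtype := by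
    intro C hC hCH
    have hm : Maxi (ρ.comp H.subtype) (C.subgroupOf H) := by
      refine ⟨hC.1.comap_of_injective H.subtype H.subtype_injective, fun Y hY => ?_⟩
      rw [jj_comp_subtype, jj_comp_subtype, Subgroup.map_subgroupOf_eq_of_le hCH]
      exact hC.2 _ (hY.map _)
    have h := hMF _ hm
    intro c hc
    exact ⟨⟨c, hCH hc⟩, h (Subgroup.mem_subgroupOf.2 hc), rfl⟩
  have hP : IsPGroup 2 ↥((pCore 2 H).map H.subtype) := pCore_isPGroup.map _
  exact hP.to_le (sup_le (key hA le_sup_left) (key hB le_sup_right))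

/-- A perfect-like invariant proper submodule vanishes. -/
theorem res_step (IH : Hyp.{u, v} n) (hcard : Nat.card Γ + Nat.card M ≤ n) (hg : Good ρ)
    {A B : Subgroup Γ} (hA : Maxi ρ A) (hB : Maxi ρ B) (hgen : A ⊔ B = ⊤)
    (W : Submodule (ZMod 2) M) (hW : Inv ρ W) (hne : W ≠ ⊤) (hb : brk ρ ⊤ W = W) : W = ⊥ := by
  set φ := resRep ρ W hW with hφ
  set π := QuotientGroup.mk' φ.ker with hπdef
  have hπ : Function.Surjective π := QuotientGroup.mk'_surjective _
  have hgood : Good (kerRep φ) :=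
    ⟨kerRep_injective φ, Quad.of_surj π hπ (kerRep_mk φ) (hg.2.1.res hW), fun h =>
      hg.2.2 (Cfsg.Agent.Lib.PReduced.Sections.involves_comap π hπ h)⟩
  have hcardW : Nat.card W < Nat.card M := by
    have h1 : W < ⊤ := lt_top_iff_ne_top.mpr hne
    have h2 := card_mul_le_of_lt h1
    have h3 : Nat.card ↥(⊤ : Submodule (ZMod 2) M) = Nat.card M :=
      Nat.card_congr Submodule.topEquiv.toEquiv
    have h4 : 0 < Nat.card W := Nat.card_pos
    omega
  have hcardQ : Nat.card (Γ ⧸ φ.ker) ≤ Nat.card Γ := Nat.card_le_card_of_surjective π hπ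
  have hMF := IH _ _ (kerRep φ) (by omega) hgood
  have hbrk : (⊤ : Submodule (ZMod 2) W) ≤
      brk (kerRep φ) (A.map π) ⊤ ⊔ brk (kerRep φ) (B.map π) ⊤ := by
    intro y _
    have hy : (y : M) ∈ brk ρ A W ⊔ brk ρ B W := brk_top_le hgen hW (hb.symm ▸ y.2)
    have hle : brk ρ A W ⊔ brk ρ B W ≤
        (brk (kerRep φ) (A.map π) ⊤ ⊔ brk (kerRep φ) (B.map π) ⊤).map W.subtype := by
      refine sup_le (brk_le ?_) (brk_le ?_)
      · intro g hg' y hy
        refine ⟨(kerRep φ (π g)) ⟨y, hy⟩ - ⟨y, hy⟩, Submodule.mem_sup_left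
          (sub_mem_brk (Subgroup.mem_map_of_mem π hg') Submodule.mem_top), ?_⟩
        rw [kerRep_mk]
        rfl
      · intro g hg' y hy
        refine ⟨(kerRep φ (π g)) ⟨y, hy⟩ - ⟨y, hy⟩, Submodule.mem_sup_right
          (sub_mem_brk (Subgroup.mem_map_of_mem π hg') Submodule.mem_top), ?_⟩
        rw [kerRep_mk]
        rfl
    obtain ⟨z, hz, hzy⟩ := hle hy
    have : z = y := Subtype.ext hzy
    rwa [← this]
  have hO := pCore_eq_bot_of_brk (kerRep_injective φ) hgood.2.1 (hA.1.map π) (hB.1.map π) hbrk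
  have hAb := hMF.offender hO (hA.1.map π) (card_le_jj_res hA hW)
  have hBb := hMF.offender hO (hB.1.map π) (card_le_jj_res hB hW)
  have hker : π.ker = φ.ker := QuotientGroup.ker_mk' _
  have hAk : A ≤ φ.ker := by
    rw [Subgroup.map_eq_bot_iff, hker] at hAb
    exact hAb
  have hBk : B ≤ φ.ker := by
    rw [Subgroup.map_eq_bot_iff, hker] at hBb
    exact hBb
  have htop : ∀ g : Γ, φ g = 1 := by
    intro g
    have : g ∈ A ⊔ B := by rw [hgen]; trivial
    exact sup_le hAk hBk this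
  rw [← hb, eq_bot_iff]
  refine brk_le fun g _ y hy => ?_
  have h1 : φ g ⟨y, hy⟩ = ⟨y, hy⟩ := by rw [htop, Module.End.one_apply]
  have h2 : ρ g y = y := congrArg Subtype.val h1
  rw [h2, sub_self]
  exact Submodule.zero_mem _

theorem card_map_mkQ_mul (Z C : Submodule (ZMod 2) M) (hZC : Z ≤ C) :
    Nat.card (C.map Z.mkQ) * Nat.card Z = Nat.card C := by
  haveI : Module.Finite (ZMod 2) M := Module.Finite.of_finite
  haveI : Finite (M ⧸ Z) := Finite.of_surjective Z.mkQ Z.mkQ_surjective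
  have e : ∀ (N : Type v) [AddCommGroup N] [Module (ZMod 2) N] [Finite N],
      Nat.card N = 2 ^ Module.finrank (ZMod 2) N := fun N _ _ _ => by
    rw [Module.natCard_eq_pow_finrank (K := ZMod 2), Nat.card_zmod]
  rw [e, e, e, ← pow_add]
  have h := LinearMap.finrank_range_add_finrank_ker (Z.mkQ.domRestrict C)
  rw [LinearMap.range_domRestrict, LinearMap.ker_domRestrict, Submodule.ker_mkQ,
    (Submodule.comapSubtypeEquivOfLe hZC).finrank_eq] at h
  rw [h]

theorem card_quot_mul (Z : Submodule (ZMod 2) M) :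
    Nat.card (M ⧸ Z) * Nat.card Z = Nat.card M := by
  haveI : Module.Finite (ZMod 2) M := Module.Finite.of_finite
  haveI : Finite (M ⧸ Z) := Finite.of_surjective Z.mkQ Z.mkQ_surjective
  have e : ∀ (N : Type v) [AddCommGroup N] [Module (ZMod 2) N] [Finite N],
      Nat.card N = 2 ^ Module.finrank (ZMod 2) N := fun N _ _ _ => by
    rw [Module.natCard_eq_pow_finrank (K := ZMod 2), Nat.card_zmod]
  rw [e, e, e, ← pow_add, Submodule.finrank_quotient_add_finrank]

theorem inv_fix_top : Inv ρ (fix ρ ⊤) := by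
  intro g y hy h _
  rw [hy g (Subgroup.mem_top g), hy h (Subgroup.mem_top h)]

/-- Reduction to `C_M(Γ) = 0`. -/
theorem quot_step (IH : Hyp.{u, v} n) (hcard : Nat.card Γ + Nat.card M ≤ n) (hg : Good ρ)
    (hO : pCore 2 Γ = ⊥) {A : Subgroup Γ} (hA : Maxi ρ A) (hne : A ≠ ⊥) : fix ρ ⊤ = ⊥ := by
  by_contra hZne
  set Z := fix ρ ⊤ with hZdef
  have hZ : Inv ρ Z := inv_fix_top
  haveI : Finite (M ⧸ Z) := Finite.of_surjective Z.mkQ Z.mkQ_surjective
  set σ := quotRep ρ Z hZ with hσ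
  have hker : ∀ k : Γ, σ k = 1 → k ^ 2 = 1 := by
    intro k hk
    apply hg.1
    ext m
    have h1 : Z.mkQ (ρ k m) = Z.mkQ m := by
      rw [← quotRep_mk hZ, ← hσ, hk, Module.End.one_apply]
    have h2 : ρ k m - m ∈ Z := by
      rw [← Submodule.ker_mkQ Z, LinearMap.mem_ker, map_sub, h1, sub_self]
    have h3 : ρ k (ρ k m - m) = ρ k m - m := h2 k (Subgroup.mem_top k)
    rw [pow_two, rho_mul_apply, map_one, Module.End.one_apply]
    rw [map_sub, sub_eq_iff_eq_add] at h3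
    rw [h3]
    have h4 : ρ k m - m + ρ k m = (ρ k m + ρ k m) - m := by abel
    rw [h4, ZModModule.add_self, zero_sub, ZModModule.neg_eq_self]
  have hinj : Function.Injective σ := by
    rw [injective_iff_map_eq_one]
    intro k hk
    have hKp : IsPGroup 2 σ.ker := by
      rintro ⟨x, hx⟩
      refine ⟨1, Subtype.ext ?_⟩
      have := hker x hx
      simpa using this
    have hKn : σ.ker.Normal := inferInstance
    have h1 : k ∈ pCore 2 Γ := le_pCore hKn hKp hk
    rwa [hO, Subgroup.mem_bot] at h1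
  have hgood : Good σ := ⟨hinj, hg.2.1.quot hZ, hg.2.2⟩
  have hZcard : 1 < Nat.card Z := by
    haveI : Nontrivial Z := (Submodule.nontrivial_iff_ne_bot).mpr hZne
    exact Finite.one_lt_card
  have hq := card_quot_mul Z
  have hcardq : Nat.card (M ⧸ Z) < Nat.card M := by
    rw [← hq]
    have : 0 < Nat.card (M ⧸ Z) := Nat.card_pos
    nlinarith
  have hMF := IH Γ (M ⧸ Z) σ (by omega) hgood
  refine hne (hMF.offender hO hA.1 ?_)
  -- the offender inequality
  set C := fix ρ A with hC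
  have hZC : Z ≤ C := fix_anti le_top
  have hmap : C.map Z.mkQ ≤ fix σ A := by
    rintro _ ⟨c, hc, rfl⟩ a ha
    show σ a (Z.mkQ c) = Z.mkQ c
    rw [quotRep_mk, hc a ha]
  have h1 : Nat.card ↥(C.map Z.mkQ) ≤ Nat.card (fix σ A) :=
    Nat.card_le_card_of_injective (Submodule.inclusion hmap) (Submodule.inclusion_injective hmap)
  have h2 := card_map_mkQ_mul Z C hZC
  have h3 : Nat.card M ≤ jj ρ A := by
    have := hA.2 ⊥ IsPGroup.of_bot
    rwa [jj_bot] at this
  have hZpos : 0 < Nat.card Z := Nat.card_pos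
  refine Nat.le_of_mul_le_mul_right ?_ hZpos
  calc Nat.card (M ⧸ Z) * Nat.card Z = Nat.card M := hq
    _ ≤ Nat.card A * Nat.card C := h3
    _ = Nat.card A * (Nat.card ↥(C.map Z.mkQ) * Nat.card Z) := by rw [h2]
    _ ≤ Nat.card A * (Nat.card (fix σ A) * Nat.card Z) :=
        Nat.mul_le_mul_left _ (Nat.mul_le_mul_right _ h1)
    _ = jj σ A * Nat.card Z := by unfold jj; ring

theorem brk_eq_fix_of (hQ : Quad ρ) {A B : Subgroup Γ} (hA : IsPGroup 2 A) (hB : IsPGroup 2 B)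
    (hb : (⊤ : Submodule (ZMod 2) M) ≤ brk ρ A ⊤ ⊔ brk ρ B ⊤) (hinf : fix ρ A ⊓ fix ρ B = ⊥) :
    brk ρ A ⊤ = fix ρ A := by
  refine le_antisymm (hQ.brk_le_fix hA _) fun c hc => ?_
  obtain ⟨a, ha, b, hb', rfl⟩ := Submodule.mem_sup.mp (hb (Submodule.mem_top (x := c)))
  have haf := hQ.brk_le_fix hA _ ha
  have hbA : b ∈ fix ρ A := by
    have := (fix ρ A).sub_mem hc haf
    rwa [add_sub_cancel_left] at this
  have hbB := hQ.brk_le_fix hB _ hb'
  have : b ∈ fix ρ A ⊓ fix ρ B := ⟨hbA, hbB⟩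
  rw [hinf, Submodule.mem_bot] at this
  rw [this, add_zero]
  exact ha

theorem eq_of_le_of_brk (hQ : Quad ρ) {A : Subgroup Γ} (hm : Maxi ρ A)
    (hbrk : brk ρ A ⊤ = fix ρ A) {H : Subgroup Γ} (hH : IsPGroup 2 H) (hAH : A ≤ H) : H = A := by
  have hfix : fix ρ H = fix ρ A := by
    refine le_antisymm (fix_anti hAH) ?_
    rw [← hbrk]
    exact (brk_mono hAH le_rfl).trans (hQ.brk_le_fix hH _)
  have h1 := hm.2 H hH
  unfold jj at h1
  rw [hfix] at h1
  have hpos : 0 < Nat.card (fix ρ A) := Nat.card_pos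
  have h2 : Nat.card H ≤ Nat.card A := Nat.le_of_mul_le_mul_right h1 hpos
  exact (Subgroup.eq_of_le_of_card_ge hAH h2).symm

/-- The stabilizer of a vector. -/
def stabS (ρ : Γ →* Module.End (ZMod 2) M) (m : M) : Subgroup Γ where
  carrier := {g | ρ g m = m}
  one_mem' := rho_one_apply m
  mul_mem' := by
    intro g h hg hh
    have hg' : ρ g m = m := hg
    have hh' : ρ h m = m := hh
    show ρ (g * h) m = m
    rw [rho_mul_apply, hh', hg']
  inv_mem' := by
    intro g hg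
    have hg' : ρ g m = m := hg
    show ρ g⁻¹ m = m
    conv_lhs => rw [← hg']
    exact rho_inv_apply g m

theorem mem_fix_sup {A B : Subgroup Γ} {m : M} (hA : m ∈ fix ρ A) (hB : m ∈ fix ρ B) :
    m ∈ fix ρ (A ⊔ B) := by
  have h : A ⊔ B ≤ stabS ρ m := sup_le (fun a ha => hA a ha) (fun b hb => hB b hb)
  exact fun g hg => h hg

/-- A non-member of a maximal maximizer fixes no nonzero vector of its fixed space. -/
theorem fixed_eq_zero (IH : Hyp.{u, v} n) (hcard : Nat.card Γ + Nat.card M ≤ n) (hg : Good ρ)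
    (hZ : fix ρ ⊤ = ⊥) {B : Subgroup Γ} (hB : Maxi ρ B)
    (hBm : ∀ H : Subgroup Γ, IsPGroup 2 H → B ≤ H → H = B) {s : Γ}
    (hs : IsPGroup 2 (Subgroup.zpowers s)) (hsB : s ∉ B) {u : M} (hu : u ∈ fix ρ B)
    (hsu : ρ s u = u) : u = 0 := by
  set B' := B.map (MulAut.conj s).toMonoidHom with hB'
  have hB'm : Maxi ρ B' := hB.conj s
  have hu' : u ∈ fix ρ B' := by
    rintro _ ⟨b, hb, rfl⟩
    show ρ (s * b * s⁻¹) u = u
    have h1 : ρ s⁻¹ u = u := by
      conv_lhs => rw [← hsu]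
      exact rho_inv_apply s u
    rw [rho_mul_apply, rho_mul_apply, h1, hu b hb, hsu]
  by_cases htop : B ⊔ B' = ⊤
  · have h1 := mem_fix_sup hu hu'
    rw [htop, hZ, Submodule.mem_bot] at h1
    exact h1
  · exfalso
    have h1 := sup_isPGroup IH hcard hg hB hB'm htop
    have h2 := hBm _ h1 le_sup_left
    have h3 : B' ≤ B := by
      rw [← h2]
      exact le_sup_right
    have h4 : B' = B := by
      refine Subgroup.eq_of_le_of_card_ge h3 ?_
      exact (Nat.card_congr (Subgroup.equivMapOfInjective _ _ (MulAut.conj s).injective).toEquiv).le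
    have h5 : Subgroup.zpowers s ≤ Subgroup.normalizer (B : Set Γ) := by
      rw [Subgroup.zpowers_le, Subgroup.mem_normalizer_iff]
      intro b
      constructor
      · intro hb
        have : s * b * s⁻¹ ∈ B' := ⟨b, hb, rfl⟩
        rwa [h4] at this
      · intro hb
        rw [← h4] at hb
        obtain ⟨c, hc, hce⟩ := hb
        have : c = b := by
          have h6 : s * c * s⁻¹ = s * b * s⁻¹ := hce
          simpa using h6
        rwa [← this]
    have h6 := hs.to_sup_of_normal_right' hB.1 h5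
    have h7 := hBm _ h6 le_sup_right
    apply hsB
    rw [← h7]
    exact Subgroup.mem_sup_left (Subgroup.mem_zpowers s)

/-- The inductive step. -/
theorem step (IH : Hyp.{u, v} n) (hcard : Nat.card Γ + Nat.card M ≤ n) (hg : Good ρ) : MF ρ := by
  intro X hX
  by_contra hXO
  have hinj := hg.1
  have hQ := hg.2.1
  have hS := hg.2.2
  obtain ⟨x, hxX, hxO⟩ := SetLike.not_le_iff_exists.mp hXO
  have hx2 := hQ.sq_eq_one hinj hX.1 hxX
  obtain ⟨g, hng⟩ := Cfsg.Agent.Lib.QuadAct.Sections.exists_conj_not_pgroup (p := 2) hx2 hxO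
  set Y := X.map (MulAut.conj g).toMonoidHom with hY
  have hYm : Maxi ρ Y := hX.conj g
  have hXYnp : ¬ IsPGroup 2 ↥(X ⊔ Y) := by
    intro h
    refine hng (h.to_le ?_)
    rw [Subgroup.closure_le]
    rintro y (rfl | rfl)
    · exact Subgroup.mem_sup_left hxX
    · exact Subgroup.mem_sup_right ⟨x, hxX, rfl⟩
  have hgen : X ⊔ Y = ⊤ := by
    by_contra h
    exact hXYnp (sup_isPGroup IH hcard hg hX hYm h)
  have hres := res_step IH hcard hg hX hYm hgen
  have hbt : brk ρ ⊤ (⊤ : Submodule (ZMod 2) M) = ⊤ := by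
    by_contra h
    have h1 := isPGroup_of_brk_ne hinj hres h
    apply hXYnp
    rw [hgen]
    rintro ⟨y, _⟩
    obtain ⟨k, hk⟩ := h1 y
    exact ⟨k, Subtype.ext hk⟩
  have hb2 : (⊤ : Submodule (ZMod 2) M) ≤ brk ρ X ⊤ ⊔ brk ρ Y ⊤ := by
    have := brk_top_le (ρ := ρ) hgen (W := ⊤) inv_top
    rwa [hbt] at this
  have hO : pCore 2 Γ = ⊥ := pCore_eq_bot_of_brk hinj hQ hX.1 hYm.1 hb2
  have hXne : X ≠ ⊥ := by
    rintro rfl
    exact hXO bot_le
  have hZ : fix ρ ⊤ = ⊥ := quot_step IH hcard hg hO hX hXne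
  have hinf : fix ρ X ⊓ fix ρ Y = ⊥ := by
    rw [eq_bot_iff]
    rintro m ⟨h1, h2⟩
    have h3 := mem_fix_sup h1 h2
    rwa [hgen, hZ] at h3
  have hsup : fix ρ X ⊔ fix ρ Y = ⊤ := by
    rw [eq_top_iff]
    exact hb2.trans (sup_le_sup (hQ.brk_le_fix hX.1 _) (hQ.brk_le_fix hYm.1 _))
  have hbX : brk ρ X ⊤ = fix ρ X := brk_eq_fix_of hQ hX.1 hYm.1 hb2 hinf
  have hbY : brk ρ Y ⊤ = fix ρ Y := by
    refine brk_eq_fix_of hQ hYm.1 hX.1 ?_ ?_
    · rwa [sup_comm]
    · rwa [inf_comm]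
  have hXm : ∀ H : Subgroup Γ, IsPGroup 2 H → X ≤ H → H = X :=
    fun H hH h => eq_of_le_of_brk hQ hX hbX hH h
  have hYmm : ∀ H : Subgroup Γ, IsPGroup 2 H → Y ≤ H → H = Y :=
    fun H hH h => eq_of_le_of_brk hQ hYm hbY hH h
  -- elements of `X ∩ Y` act trivially
  have hXY : ∀ a, a ∈ X → a ∈ Y → a = 1 := by
    intro a ha ha'
    apply hinj
    ext m
    rw [map_one, Module.End.one_apply]
    have h1 : m ∈ fix ρ X ⊔ fix ρ Y := by rw [hsup]; trivial
    have h2 : fix ρ X ⊔ fix ρ Y ≤ fix ρ (Subgroup.zpowers a) := by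
      refine sup_le (fix_anti ?_) (fix_anti ?_) <;> rw [Subgroup.zpowers_le]
      · exact ha
      · exact ha'
    exact h2 h1 a (Subgroup.mem_zpowers a)
  have hzX : ∀ a ∈ X, IsPGroup 2 (Subgroup.zpowers a) := fun a ha =>
    hX.1.to_le (Subgroup.zpowers_le.mpr ha)
  have hzY : ∀ a ∈ Y, IsPGroup 2 (Subgroup.zpowers a) := fun a ha =>
    hYm.1.to_le (Subgroup.zpowers_le.mpr ha)
  -- `t`
  have hYne : Y ≠ ⊥ := by
    intro h
    rw [hY, Subgroup.map_eq_bot_iff_of_injective _ (MulAut.conj g).injective] at h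
    exact hXne h
  obtain ⟨⟨t, htY⟩, ht1⟩ := Subgroup.ne_bot_iff_exists_ne_one.mp hYne
  have ht1' : t ≠ 1 := fun h => ht1 (Subtype.ext h)
  have htX : t ∉ X := fun h => ht1' (hXY t h htY)
  -- `w`
  have hCne : fix ρ X ≠ ⊥ := by
    intro h
    rw [← hbX] at h
    apply hXne
    rw [eq_bot_iff]
    intro a ha
    rw [Subgroup.mem_bot]
    apply hinj
    ext m
    rw [map_one, Module.End.one_apply]
    have h1 : ρ a m - m ∈ brk ρ X ⊤ := sub_mem_brk ha Submodule.mem_top
    rw [h, Submodule.mem_bot, sub_eq_zero] at h1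
    exact h1
  obtain ⟨w, hw, hw0⟩ := (Submodule.ne_bot_iff _).mp hCne
  set u := ρ t w - w with hu
  have huY : u ∈ fix ρ Y := hQ.sub_mem_fix hYm.1 htY w
  have hu0 : u ≠ 0 := by
    intro h
    rw [hu, sub_eq_zero] at h
    exact hw0 (fixed_eq_zero IH hcard hg hZ hX hXm (hzY t htY) htX hw h)
  have huw : u ≠ w := by
    intro h
    have : u ∈ fix ρ X ⊓ fix ρ Y := ⟨h ▸ hw, huY⟩
    rw [hinf, Submodule.mem_bot] at this
    exact hu0 this
  -- orders
  have hcY : Nat.card Y = Nat.card X :=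
    (Nat.card_congr (Subgroup.equivMapOfInjective _ _ (MulAut.conj g).injective).toEquiv).symm
  have hfY : Nat.card (fix ρ Y) = Nat.card (fix ρ X) := by
    have h1 : jj ρ Y = jj ρ X := jj_conj g X
    unfold jj at h1
    rw [hcY] at h1
    exact Nat.eq_of_mul_eq_mul_left Nat.card_pos h1
  have hMc : Nat.card M = Nat.card (fix ρ X) * Nat.card (fix ρ Y) := by
    have h1 := card_sup_mul_card_inf (fix ρ X) (fix ρ Y)
    rw [hsup, hinf] at h1
    have h2 : Nat.card ↥(⊤ : Submodule (ZMod 2) M) = Nat.card M :=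
      Nat.card_congr Submodule.topEquiv.toEquiv
    have h3 : Nat.card ↥(⊥ : Submodule (ZMod 2) M) = 1 := by
      simp
    rw [h2, h3, mul_one] at h1
    exact h1
  have hcX : Nat.card (fix ρ X) ≤ Nat.card X := by
    have h1 : Nat.card M ≤ jj ρ X := by
      have := hX.2 ⊥ IsPGroup.of_bot
      rwa [jj_bot] at this
    rw [hMc, hfY] at h1
    unfold jj at h1
    exact Nat.le_of_mul_le_mul_right h1 Nat.card_pos
  -- the map
  let f : X → fix ρ X := fun a => ⟨ρ a u - u, hQ.sub_mem_fix hX.1 a.2 u⟩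
  have hf : Function.Injective f := by
    rintro ⟨a, ha⟩ ⟨b, hb⟩ hab
    have h1 : ρ a u - u = ρ b u - u := congrArg Subtype.val hab
    have h2 : ρ a u = ρ b u := sub_left_injective h1
    have h3 : ρ (b⁻¹ * a) u = u := by
      rw [rho_mul_apply, h2, rho_inv_apply]
    by_contra hne
    have hc : b⁻¹ * a ∈ X := mul_mem (inv_mem hb) ha
    have hc1 : b⁻¹ * a ≠ 1 := by
      intro h
      apply hne
      apply Subtype.ext
      exact (inv_mul_eq_one.mp h).symm
    have hcY : b⁻¹ * a ∉ Y := fun h => hc1 (hXY _ hc h)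
    exact hu0 (fixed_eq_zero IH hcard hg hZ hYm hYmm (hzX _ hc) hcY huY h3)
  obtain ⟨⟨s, hsX⟩, hs⟩ := (hf.bijective_of_nat_card_le hcX).2 ⟨w, hw⟩
  have hsu : ρ s u - u = w := congrArg Subtype.val hs
  refine hS (involves_of_plane (ρ := ρ) hu0 hw0 huw (s := s) (t := t) ?_ (hw s hsX) ?_ (huY t htY))
  · rw [← hsu]
    abel
  · rw [hu]
    abel

theorem hyp_all (n : ℕ) : Hyp.{u, v} n := by
  induction n with
  | zero =>
    intro Γ _ _ M _ _ _ ρ h
    omega
  | succ n ih =>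
    intro Γ _ _ M _ _ _ ρ h hg
    exact step ih (by omega) hg

/-- **The main theorem**: maximizers lie in `O₂`. -/
theorem mf_of_good (hg : Good ρ) : MF ρ :=
  hyp_all (Nat.card Γ + Nat.card M + 1) Γ M ρ (by omega) hg

/-- Offenders are trivial when `O₂(Γ) = 1`. -/
theorem offender_eq_bot (hg : Good ρ) (hO : pCore 2 Γ = ⊥) {X : Subgroup Γ}
    (hX : IsPGroup 2 X) (hoff : Nat.card M ≤ jj ρ X) : X = ⊥ :=
  (mf_of_good hg).offender hO hX hoff

end main

end Cfsg.Agent.Lib.SFourFree.QuadFF
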